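import Cfsg.Agent.LThreeFour.Dat

/-!
# Coordinates on `PSL(3,4)`
-/

set_option autoImplicit false
set_option linter.constructorNameAsVariable false
set_option linter.unusedVariables false

namespace Cfsg.Agent.LThreeFour


open Cfsg.Agent.SporadicA.FieldFour
open Cfsg.Agent.ONType.Psl
open Cfsg.Agent.ONType.OuterL (rv rv_ne rv_rv dd exists_std)
open Cfsg.Agent.ONType.PslCard
open Cfsg.Agent.StdL34.PslCent

theorem exists_om (d : F4) (hd : d ≠ 0) : ∃ k, d = om k := by
  revert d; decide

theorem dd_aux : ∀ k : Fin 3, ∃ m : Fin 3, ∃ n : Fin 3, ∀ i j : Fin 3, i ≠ j →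
    kap i j ^ (m : ℕ) * (dd (om k) i * (dd (om k) j)⁻¹) = dg n i j := by
  decide +kernel

theorem hh_conj (m : ℕ) (i j : Fin 3) (h : i ≠ j) (u : F4) :
    (hh ^ m)⁻¹ * t i j u * hh ^ m = t i j (kap i j ^ m * u) := by
  induction m with
  | zero => simp
  | succ n ih =>
    have h1 : hh⁻¹ * t i j (kap i j ^ n * u) * hh = t i j (kap i j * (kap i j ^ n * u)) := by
      have := t_h i j (kap i j ^ n * u) h
      rw [mul_assoc, this, inv_mul_cancel_left]
    rw [pow_succ hh, mul_inv_rev, pow_succ', mul_assoc (kap i j), ← h1, ← ih]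
    group

theorem ringEquiv_fr (σ : F4 ≃+* F4) : ∃ e, ∀ u, σ u = fr e u := by
  rcases Cfsg.Agent.ONType.OuterL.ringEquiv_eq σ with h | h
  · exact ⟨false, fun u => by rw [h]; rfl⟩
  · exact ⟨true, fun u => by rw [h]; rfl⟩

theorem hh_eq (i j : Fin 3) (h : i ≠ j) :
    t i j (kap i j) * t j i (kap j i) * t i j (kap i j) * (t i j 1 * t j i 1 * t i j 1) = hh := by
  have e1 : t i j (kap i j) = hh⁻¹ * t i j 1 * hh := by
    have := hh_conj 1 i j h 1
    rw [pow_one, pow_one, mul_one] at this
    exact this.symm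
  have e2 : t j i (kap j i) = hh⁻¹ * t j i 1 * hh := by
    have := hh_conj 1 j i h.symm 1
    rw [pow_one, pow_one, mul_one] at this
    exact this.symm
  have e3 : hh * nn i j * hh = nn i j := hnh i j h
  have e4 : nn i j * nn i j = 1 := by
    have h1 := t_n i j i j 1 h h
    have h2 := t_n i j j i 1 h h.symm
    rw [Equiv.swap_apply_left, Equiv.swap_apply_right] at h1 h2
    have h3 : nn i j * nn i j = nn i j * (t j i 1 * t i j 1 * t j i 1) := by
      calc nn i j * nn i j = (t i j 1 * t j i 1 * t i j 1) * nn i j := rfl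
        _ = t i j 1 * t j i 1 * (t i j 1 * nn i j) := by group
        _ = t i j 1 * (t j i 1 * nn i j) * t j i 1 := by rw [h1]; group
        _ = (t i j 1 * nn i j) * t i j 1 * t j i 1 := by rw [h2]; group
        _ = nn i j * (t j i 1 * t i j 1 * t j i 1) := by rw [h1]; group
    have h4 : t j i 1 * t i j 1 * t j i 1 = t i j 1 * t j i 1 * t i j 1 := by
      have h5 := mul_left_cancel h3
      exact h5.symm
    have h5 : ∀ a b : Fin 3, a ≠ b → t a b 1 * t a b 1 = 1 := by
      intro a b hab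
      rw [t_add a b 1 1 hab]
      exact t_zero a b
    calc nn i j * nn i j = (t i j 1 * t j i 1 * t i j 1) * (t i j 1 * t j i 1 * t i j 1) := rfl
      _ = t i j 1 * t j i 1 * (t i j 1 * t i j 1) * t j i 1 * t i j 1 := by group
      _ = t i j 1 * (t j i 1 * t j i 1) * t i j 1 := by rw [h5 i j h]; group
      _ = 1 := by rw [h5 j i h.symm, mul_one, h5 i j h]
  rw [e1, e2]
  calc hh⁻¹ * t i j 1 * hh * (hh⁻¹ * t j i 1 * hh) * (hh⁻¹ * t i j 1 * hh) *
        (t i j 1 * t j i 1 * t i j 1)
      = hh⁻¹ * nn i j * hh * nn i j := by unfold nn; group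
    _ = hh⁻¹ * hh⁻¹ * (hh * nn i j * hh) * nn i j := by group
    _ = hh⁻¹ * hh⁻¹ * (nn i j * nn i j) := by rw [e3]; group
    _ = hh⁻¹ * hh⁻¹ := by rw [e4, mul_one]
    _ = hh := by
      rw [← mul_inv_rev, inv_eq_iff_mul_eq_one]
      have := hh_pow
      rw [pow_three] at this
      rw [mul_assoc]; exact this

/-- the coordinates of `PSL(3,4)` -/
noncomputable def datPSL : Dat PSL3 where
  x := t
  h := hh
  x_add i j h u v := t_add i j u v h
  x_row i j k h1 h2 u v := t_row i j k u v h1 h2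
  x_col i j k h1 h2 u v := t_col i j k u v h1 h2
  x_sum i j k h1 h2 h3 u v := t_sum i j k u v h1 h2 h3
  x_wey i j k l h h' u := by
    have := t_n i j k l u h h'
    unfold nn at this
    rw [mul_assoc, this, inv_mul_cancel_left]
  h_pow := hh_pow
  h_x i j h u := by rw [mul_assoc, t_h i j u h, inv_mul_cancel_left]
  h_eq := hh_eq
  el_inj p q h := by
    obtain ⟨ha, hb, hc⟩ := t_inj h
    cases p; cases q
    simp only at ha hb hc
    subst ha hb hc
    rfl
  gen := by
    rw [← closure_t]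
    congr 1
    ext y
    simp only [Set.mem_ofPred_eq, exists_prop]
    constructor
    · rintro ⟨i, j, u, h, rfl⟩; exact ⟨i, j, h, u, rfl⟩
    · rintro ⟨i, j, h, u, rfl⟩; exact ⟨i, j, u, h, rfl⟩
  odd_index := by
    refine ⟨Subgroup.centralizer ({t 0 2 1} : Set PSL3), ?_, ?_⟩
    · intro l
      rw [Subgroup.mem_centralizer_singleton_iff, cent_t02]
      constructor
      · rintro ⟨a, b, c, h⟩; exact ⟨⟨a, b, c⟩, h⟩
      · rintro ⟨p, h⟩; exact ⟨p.a, p.b, p.c, h⟩
    · have hcard : Nat.card (Subgroup.centralizer ({t 0 2 1} : Set PSL3)) = 64 := by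
        rw [← card_code]
        symm
        apply Nat.card_congr
        refine Equiv.ofBijective (fun p => ⟨elx t p, ?_⟩) ⟨?_, ?_⟩
        · rw [Subgroup.mem_centralizer_singleton_iff, cent_t02]
          exact ⟨p.a, p.b, p.c, rfl⟩
        · intro p q h
          obtain ⟨ha, hb, hc⟩ := t_inj (congrArg Subtype.val h)
          cases p; cases q
          simp only at ha hb hc
          subst ha hb hc
          rfl
        · rintro ⟨l, hl⟩
          rw [Subgroup.mem_centralizer_singleton_iff, cent_t02] at hl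
          obtain ⟨a, b, c, h⟩ := hl
          exact ⟨⟨a, b, c⟩, Subtype.ext h.symm⟩
      have h1 := Subgroup.card_mul_index (Subgroup.centralizer ({t 0 2 1} : Set PSL3))
      rw [hcard, card_PSL3] at h1
      omega
  cent l h := by
    rw [cent_t02] at h
    obtain ⟨a, b, c, h⟩ := h
    exact ⟨⟨a, b, c⟩, h⟩
  outer α := by
    obtain ⟨l, d, hd, σ, H⟩ := exists_std α
    obtain ⟨k, rfl⟩ := exists_om d hd
    obtain ⟨e, he⟩ := ringEquiv_fr σ
    obtain ⟨m, n, hmn⟩ := dd_aux k
    refine ⟨(hh ^ (m : ℕ))⁻¹ * l, ?_⟩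
    rcases H with H | H
    · refine ⟨(e, false, n), fun i j hij u => ?_⟩
      have h1 := H i j hij u
      rw [MulAut.mul_apply, MulAut.conj_apply] at h1
      have h2 := hh_conj m i j hij (dd (om k) i * (dd (om k) j)⁻¹ * σ u)
      rw [← mul_assoc, hmn i j hij, he] at h2
      show _ = t i j (dg n i j * fr e u)
      rw [← h2, ← he, ← h1]
      group
    · refine ⟨(e, true, -n), fun i j hij u => ?_⟩
      have h1 := H i j hij u
      rw [MulAut.mul_apply, MulAut.conj_apply] at h1
      have h2 := hh_conj m (rv j) (rv i) (rv_ne hij.symm)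
        (dd (om k) (rv j) * (dd (om k) (rv i))⁻¹ * σ u)
      rw [← mul_assoc, hmn _ _ (rv_ne hij.symm), he] at h2
      show _ = t (rv j) (rv i) (dg (-n) i j * fr e u)
      rw [← dg_rv n i j, ← h2, ← he, ← h1]
      group
  card := card_PSL3
  r_pow := tt_pow_three
  r_ne := tt_ne_one

/-- transport of coordinates -/
noncomputable def Dat.map {L M : Type*} [Group L] [Group M] (A : Dat L) (e : L ≃* M) : Dat M where
  x i j u := e (A.x i j u)
  h := e A.h
  x_add i j h u v := by rw [← map_mul, A.x_add i j h]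
  x_row i j k h1 h2 u v := by rw [← map_mul, ← map_mul, A.x_row i j k h1 h2]
  x_col i j k h1 h2 u v := by rw [← map_mul, ← map_mul, A.x_col i j k h1 h2]
  x_sum i j k h1 h2 h3 u v := by
    rw [← map_mul, A.x_sum i j k h1 h2 h3, map_mul, map_mul]
  x_wey i j k l h h' u := by
    rw [← map_mul, ← map_mul, ← map_inv, ← map_mul, ← map_mul, A.x_wey i j k l h h']
  h_pow := by rw [← map_pow, A.h_pow, map_one]
  h_x i j h u := by rw [← map_inv, ← map_mul, ← map_mul, A.h_x i j h]
  h_eq i j h := by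
    rw [← map_mul, ← map_mul, ← map_mul, ← map_mul, ← map_mul, A.h_eq i j h]
  el_inj p q h := by
    have h1 : ∀ p, elx (fun i j u => e (A.x i j u)) p = e (elx A.x p) := by
      intro p; unfold elx; rw [map_mul, map_mul]
    rw [h1, h1] at h
    exact A.el_inj (e.injective h)
  gen := by
    have h1 := congrArg (Subgroup.map (e : L →* M)) A.gen
    rw [MonoidHom.map_closure, Subgroup.map_top_of_surjective _ e.surjective] at h1
    rw [← h1]
    congr 1
    ext y
    constructor
    · rintro ⟨i, j, u, h, rfl⟩; exact ⟨_, ⟨i, j, u, h, rfl⟩, rfl⟩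
    · rintro ⟨_, ⟨i, j, u, h, rfl⟩, rfl⟩; exact ⟨i, j, u, h, rfl⟩
  odd_index := by
    obtain ⟨T, hT, h2⟩ := A.odd_index
    have h1 : ∀ p, elx (fun i j u => e (A.x i j u)) p = e (elx A.x p) := by
      intro p; unfold elx; rw [map_mul, map_mul]
    refine ⟨T.map (e : L →* M), ?_, ?_⟩
    · intro l
      constructor
      · rintro ⟨y, hy, rfl⟩
        obtain ⟨p, rfl⟩ := (hT y).1 hy
        exact ⟨p, (h1 p).symm⟩
      · rintro ⟨p, rfl⟩
        exact ⟨elx A.x p, (hT _).2 ⟨p, rfl⟩, (h1 p).symm⟩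
    · rw [Subgroup.index_map_of_bijective e.bijective]
      exact h2
  cent l h := by
    have h1 : ∀ p, elx (fun i j u => e (A.x i j u)) p = e (elx A.x p) := by
      intro p; unfold elx; rw [map_mul, map_mul]
    obtain ⟨y, rfl⟩ := e.surjective l
    rw [← map_mul, ← map_mul] at h
    obtain ⟨p, rfl⟩ := A.cent y (e.injective h)
    exact ⟨p, (h1 p).symm⟩
  outer α := by
    obtain ⟨l, τ, H⟩ := A.outer ((e.trans α).trans e.symm)
    refine ⟨e l, τ, fun i j hij u => ?_⟩
    have h1 := congrArg e (H i j hij u)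
    rw [map_mul, map_mul, map_inv] at h1
    have h2 : e (((e.trans α).trans e.symm) (A.x i j u)) = α (e (A.x i j u)) := by simp
    rw [h2] at h1
    rw [h1]
    unfold imgx
    split <;> rfl
  card := by rw [← Nat.card_congr e.toEquiv, A.card]
  r_pow := by rw [← map_mul, ← map_pow, A.r_pow, map_one]
  r_ne := by
    rw [← map_mul]
    intro h
    rw [map_eq_one_iff _ e.injective] at h
    exact A.r_ne h

theorem exists_dat {L : Type*} [Group L] {F : Type*} [Field F] [Fintype F]
    (hF : Fintype.card F = 4)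
    (e : L ≃* Matrix.ProjectiveSpecialLinearGroup (Fin 3) F) : Nonempty (Dat L) := by
  obtain ⟨e'⟩ := nonempty_psl_equiv (n := Fin 3) F hF
  exact ⟨datPSL.map (e'.trans e.symm)⟩

end Cfsg.Agent.LThreeFour
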