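import Cfsg.Agent.LThreeFour.Facts

/-!
# Solvability of the stabiliser of `x₀₂(1)`, consequences
-/

set_option autoImplicit false
set_option linter.constructorNameAsVariable false
set_option linter.unusedVariables false

namespace Cfsg.Agent.LThreeFour

open Cfsg.Agent.SporadicA.FieldFour
open scoped commutatorElement

theorem TyG.ker_comm : ∀ a b : TyG, bitsHom a = 1 → bitsHom b = 1 → a * b = b * a := by
  decide +kernel

theorem TyG.isSolvable : Group.IsSolvable TyG := by
  have h1 : Group.IsSolvable bitsHom.ker := Group.isSolvable_of_comm (fun a b => Subtype.ext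
    (TyG.ker_comm _ _ (MonoidHom.mem_ker.mp a.2) (MonoidHom.mem_ker.mp b.2)))
  have h2 : Group.IsSolvable (Multiplicative (ZMod 2) × Multiplicative (ZMod 2)) := inferInstance
  exact Group.isSolvable_of_ker_le_range bitsHom.ker.subtype bitsHom (by rw [Subgroup.range_subtype])

/-- the commutator subgroup of the group of types has order three -/
theorem TyG.comm_bits (a b : TyG) : bitsHom ⁅a, b⁆ = 1 := by
  rw [map_commutatorElement, commutatorElement_eq_one_iff_mul_comm, mul_comm]

theorem TyG.cube : ∀ a : TyG, bitsHom a = 1 → a * a * a = 1 := by decide +kernel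

/-- an element of order a power of two in the commutator subgroup of the type group is trivial -/
theorem TyG.eq_one_of_comm {a : TyG} (ha : a ∈ commutator TyG) {n : ℕ} (h : a ^ (2 ^ n) = 1) :
    a = 1 := by
  have h1 : bitsHom a = 1 := by
    have h2 : commutator TyG ≤ bitsHom.ker := by
      rw [commutator_def, Subgroup.commutator_le]
      exact fun a _ b _ => TyG.comm_bits a b
    exact MonoidHom.mem_ker.mp (h2 ha)
  have h3 := TyG.cube a h1
  have h4 : a ^ 3 = 1 := by rw [pow_three']; exact h3
  have h5 : orderOf a ∣ 3 := orderOf_dvd_of_pow_eq_one h4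
  have h6 : orderOf a ∣ 2 ^ n := orderOf_dvd_of_pow_eq_one h
  have h7 : orderOf a = 1 := Nat.eq_one_of_dvd_coprimes (Nat.Coprime.pow_right n (by norm_num)) h5 h6
  exact orderOf_eq_one_iff.mp h7

namespace Dat

variable {L : Type*} [Group L] {A : Dat L}

theorem isSolvable_MT : Group.IsSolvable A.MT := by
  have h1 : IsPGroup 2 (A.tyHom.comp A.MT.subtype).ker :=
    IsPGroup.of_card (n := 6) (by rw [card_ker_MT]; rfl)
  have : Finite (A.tyHom.comp A.MT.subtype).ker :=
    Nat.finite_of_card_ne_zero (by rw [card_ker_MT]; norm_num)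
  have : Fact (Nat.Prime 2) := ⟨Nat.prime_two⟩
  have hn : Group.IsNilpotent (A.tyHom.comp A.MT.subtype).ker := h1.isNilpotent
  have h2 : Group.IsSolvable (A.tyHom.comp A.MT.subtype).ker := inferInstance
  have h3 := TyG.isSolvable
  exact Group.isSolvable_of_ker_le_range (A.tyHom.comp A.MT.subtype).ker.subtype
    (A.tyHom.comp A.MT.subtype) (by rw [Subgroup.range_subtype])

/-- automorphisms fixing an involution form a solvable group of order dividing `2⁸·3` -/
theorem perfect_fix (A : Dat L) {H : Type*} [Group H] (hH : commutator H = ⊤) (f : H →* MulAut L) {x : L}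
    (h1 : x ≠ 1) (h2 : x * x = 1) (hf : ∀ y, f y x = x) : ∀ y, f y = 1 := by
  obtain ⟨g, hg⟩ := A.invol_conj x h1 h2
  have hmem : ∀ y, MulAut.conj g * f y * (MulAut.conj g)⁻¹ ∈ A.MT := by
    intro y
    rw [mem_MT_iff, ← hg]
    rw [MulAut.mul_apply, MulAut.mul_apply, ← map_inv, MulAut.conj_apply, MulAut.conj_apply]
    have : g⁻¹ * (g * x * g⁻¹) * g⁻¹⁻¹ = x := by group
    rw [this, hf]
  let F : H →* A.MT := ((MulAut.conj (MulAut.conj g)).toMonoidHom.comp f).codRestrict A.MT hmem
  have h3 : Group.IsSolvable F.range := by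
    have := isSolvable_MT (A := A)
    infer_instance
  have h4 : Group.IsSolvable (H ⧸ F.ker) := by
    have e := QuotientGroup.quotientKerEquivRange F
    exact Group.isSolvable_of_isSolvable_injective (f := e.toMonoidHom) e.injective
  have h5 : commutator (H ⧸ F.ker) = ⊤ := by
    have h6 := Subgroup.map_commutator (⊤ : Subgroup H) ⊤ (QuotientGroup.mk' F.ker)
    rw [← commutator_def, hH, Subgroup.map_top_of_surjective _ (QuotientGroup.mk'_surjective _)] at h6
    rw [commutator_def]
    exact h6.symm
  have h7 : Subsingleton (H ⧸ F.ker) := by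
    by_contra hcon
    have hnt : Nontrivial (H ⧸ F.ker) := not_subsingleton_iff_nontrivial.mp hcon
    have h8 := Group.IsSolvable.commutator_lt_top_of_nontrivial (H ⧸ F.ker)
    exact absurd h5 h8.ne
  intro y
  have h8 : (QuotientGroup.mk' F.ker) y = (QuotientGroup.mk' F.ker) 1 := Subsingleton.elim _ _
  have h9 : y ∈ F.ker := by
    rw [map_one] at h8
    exact (QuotientGroup.eq_one_iff y).mp h8
  have h10 : MulAut.conj g * f y * (MulAut.conj g)⁻¹ = 1 := congrArg Subtype.val (MonoidHom.mem_ker.mp h9)
  calc f y = (MulAut.conj g)⁻¹ * (MulAut.conj g * f y * (MulAut.conj g)⁻¹) * MulAut.conj g := by group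
    _ = 1 := by rw [h10]; group

/-- an automorphism of 2-power order in the commutator subgroup of the automorphism group is inner -/
theorem inner_of_comm (A : Dat L) {α : MulAut L} (h : α ∈ commutator (MulAut L)) {n : ℕ}
    (h2 : α ^ (2 ^ n) = 1) : ∃ l, α = MulAut.conj l := by
  rw [← A.inner_iff]
  apply TyG.eq_one_of_comm (n := n)
  · have h3 : commutator (MulAut L) ≤ (commutator TyG).comap A.tyHom := by
      rw [commutator_def, Subgroup.commutator_le]
      intro a _ b _
      rw [Subgroup.mem_comap, map_commutatorElement]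
      exact Subgroup.commutator_mem_commutator trivial trivial
    exact h3 h
  · rw [← map_pow, h2, map_one]

end Dat

end Cfsg.Agent.LThreeFour
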