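import Cfsg.Agent.LThreeFour.Aut

/-!
# Outer types, Sylow embedding and classes of involutory automorphisms of `L3(4)`
-/

set_option autoImplicit false
set_option linter.constructorNameAsVariable false
set_option linter.unusedVariables false

namespace Cfsg.Agent.LThreeFour

open Cfsg.Agent.SporadicA.FieldFour
open Cfsg.Agent.ONType.Psl (kap)
open Cfsg.Agent.ONType.OuterL (rv rv_ne rv_rv)

theorem Ty.eq_of_mul_one : ∀ τ ρ : Ty, τ.mul ρ = ty1 → ρ = τ.inv := by decide +kernel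

theorem Ty.inv_inv : ∀ τ : Ty, τ.inv.inv = τ := by decide

theorem cact_x02 : ∀ (τ : Ty) p, cact p τ ⟨0, 0, 1⟩ = ⟨0, 0, 1⟩ := by decide +kernel

theorem inv_inner : ∀ a b c, cmul ⟨a, b, c⟩ ⟨a, b, c⟩ = cone →
    (a = 0 ∨ b = 0) := by
  decide +kernel

theorem inv_inner' : ∀ a b c, (a = 0 ∨ b = 0) → ¬ (⟨a, b, c⟩ : Code) = cone →
    ∃ a' b', (fun r : Code => (r.a = 0 ∧ r.b = 0) ∨ (r.b = 0 ∧ r.c = 0) ∨ (r.a = 0 ∧ r.c = 0))
      (cmul (cmul ⟨a', b', 0⟩ ⟨a, b, c⟩) (cinv ⟨a', b', 0⟩)) := by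
  decide +kernel

set_option synthInstance.maxHeartbeats 400000 in
set_option synthInstance.maxSize 1024 in
theorem inv_outer : ∀ (τ : Ty) a b c, τ ≠ ty1 → τ.mul τ = ty1 →
    cmul (ctau τ ⟨a, b, c⟩) ⟨a, b, c⟩ = cone →
    ∃ a' b' c', cmul (ctau τ ⟨a', b', c'⟩)
      (cmul ⟨a, b, c⟩ (cinv ⟨a', b', c'⟩)) = cone := by
  decide +kernel

namespace Dat

variable {L : Type*} [Group L] {A : Dat L}

variable (A) in
/-- outer type of an automorphism -/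
def HasTy (α : MulAut L) (τ : Ty) : Prop := ∃ l, A.IsTau τ (MulAut.conj l * α)

theorem hasTy (α : MulAut L) : ∃ τ, A.HasTy α τ := by
  obtain ⟨l, τ, h⟩ := A.exists_tau α
  exact ⟨τ, l, h⟩

theorem HasTy.unique {α : MulAut L} {τ ρ : Ty} (h : A.HasTy α τ) (h' : A.HasTy α ρ) : τ = ρ := by
  obtain ⟨l, hl⟩ := h
  obtain ⟨m, hm⟩ := h'
  have e : MulAut.conj m * α = MulAut.conj (m * l⁻¹) * (MulAut.conj l * α) := by
    rw [map_mul, map_inv]; group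
  rw [e] at hm
  exact (hl.unique hm).1.symm

theorem IsTau.hasTy {τ : Ty} {α : MulAut L} (h : A.IsTau τ α) : A.HasTy α τ :=
  ⟨1, by rwa [map_one, one_mul]⟩

theorem Cd.hasTy {τ : Ty} {p : Code} {α : MulAut L} (h : A.Cd α p τ) : A.HasTy α τ :=
  ⟨A.el p, h⟩

theorem HasTy.mul {α β : MulAut L} {τ ρ : Ty} (h : A.HasTy α τ) (h' : A.HasTy β ρ) :
    A.HasTy (α * β) (τ.mul ρ) := by
  obtain ⟨l, hl⟩ := h
  obtain ⟨m, hm⟩ := h'
  refine ⟨(MulAut.conj l * α) m * l, ?_⟩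
  have := hl.mul hm
  convert this using 1
  rw [map_mul, conj_map]
  group

theorem hasTy_one : A.HasTy (1 : MulAut L) ty1 := isTau_one.hasTy

theorem hasTy_conj (l : L) : A.HasTy (MulAut.conj l) ty1 :=
  ⟨l⁻¹, by rw [map_inv, inv_mul_cancel]; exact isTau_one⟩

theorem HasTy.inner {α : MulAut L} (h : A.HasTy α ty1) : ∃ l, α = MulAut.conj l := by
  obtain ⟨l, hl⟩ := h
  refine ⟨l⁻¹, ?_⟩
  have := hl.ext isTau_one
  rw [map_inv]
  exact eq_inv_of_mul_eq_one_right this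

theorem HasTy.inv {α : MulAut L} {τ : Ty} (h : A.HasTy α τ) : A.HasTy α⁻¹ τ.inv := by
  obtain ⟨ρ, hρ⟩ := A.hasTy α⁻¹
  have h1 := h.mul hρ
  rw [mul_inv_cancel] at h1
  have h2 := h1.unique isTau_one.hasTy
  rwa [← Ty.eq_of_mul_one _ _ h2]

/-- an automorphism fixing `x₀₂(1)` -/
theorem exists_cd {α : MulAut L} (h : α (A.x 0 2 1) = A.x 0 2 1) : ∃ p τ, A.Cd α p τ := by
  obtain ⟨l, τ, hl⟩ := A.exists_tau α
  have h2 := hl.x02 1
  have e1 : ∀ e, fr e (1 : F4) = 1 := by decide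
  rw [MulAut.mul_apply, h, MulAut.conj_apply, e1] at h2
  obtain ⟨p, rfl⟩ := A.cent l (mul_inv_eq_iff_eq_mul.mp h2)
  exact ⟨p, τ, hl⟩

theorem Cd.x02 {α : MulAut L} {p : Code} {τ : Ty} (h : A.Cd α p τ) :
    α (A.x 0 2 1) = A.x 0 2 1 := by
  rw [← A.el_x02, h.apply, cact_x02]

variable (A) in
/-- automorphisms with a code = automorphisms fixing `x₀₂(1)` -/
def MT : Subgroup (MulAut L) where
  carrier := {α | ∃ p τ, A.Cd α p τ}
  mul_mem' := by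
    rintro α β ⟨p, τ, h⟩ ⟨q, ρ, h'⟩
    exact ⟨_, _, h.mul h'⟩
  one_mem' := ⟨cone, ty1, isTau_one.cd⟩
  inv_mem' := by
    rintro α ⟨p, τ, h⟩
    exact ⟨_, _, h.inv⟩

theorem mem_MT {α : MulAut L} : α ∈ A.MT ↔ ∃ p τ, A.Cd α p τ := Iff.rfl

theorem mem_MT_iff {α : MulAut L} : α ∈ A.MT ↔ α (A.x 0 2 1) = A.x 0 2 1 :=
  ⟨fun ⟨_, _, h⟩ => h.x02, fun h => A.exists_cd h⟩

theorem IsTau.mem_MT {τ : Ty} {β : MulAut L} (h : A.IsTau τ β) : β ∈ A.MT := ⟨_, _, h.cd⟩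

theorem conj_mem_MT (p : Code) : MulAut.conj (A.el p) ∈ A.MT := ⟨_, _, A.cd_conj p⟩

theorem MT_odd : ¬ 2 ∣ Nat.card (MulAut L ⧸ A.MT) := by
  let act : MulAction L (MulAut L ⧸ A.MT) :=
    MulAction.compHom _ (MulAut.conj : L →* MulAut L)
  have hact : ∀ (l : L) (β : MulAut L), l • (β : MulAut L ⧸ A.MT) =
      ((MulAut.conj l * β : MulAut L) : MulAut L ⧸ A.MT) := fun _ _ => rfl
  have htr : MulAction.IsPretransitive L (MulAut L ⧸ A.MT) := by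
    rw [MulAction.isPretransitive_iff_base ((1 : MulAut L) : MulAut L ⧸ A.MT)]
    intro x
    obtain ⟨β, rfl⟩ := QuotientGroup.mk_surjective x
    obtain ⟨l, τ, hl⟩ := A.exists_tau β
    refine ⟨l⁻¹, ?_⟩
    rw [hact, QuotientGroup.eq, mul_one, map_inv, inv_inv]
    exact hl.mem_MT
  rw [← MulAction.index_stabilizer_of_transitive L ((1 : MulAut L) : MulAut L ⧸ A.MT)]
  intro h
  apply A.T_index
  refine h.trans (Subgroup.index_dvd_of_le ?_)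
  rintro _ ⟨p, rfl⟩
  rw [MulAction.mem_stabilizer_iff, hact, mul_one, QuotientGroup.eq, mul_one]
  exact inv_mem (conj_mem_MT p)

/-- every 2-group of automorphisms is conjugate into `MT` -/
theorem exists_conj_MT (Q : Subgroup (MulAut L)) (hQ : IsPGroup 2 Q) :
    ∃ l, ∀ α ∈ Q, MulAut.conj l * α * (MulAut.conj l)⁻¹ ∈ A.MT := by
  obtain ⟨x, hx⟩ := hQ.nonempty_fixed_point_of_prime_not_dvd_card (MulAut L ⧸ A.MT) MT_odd
  obtain ⟨β, rfl⟩ := QuotientGroup.mk_surjective x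
  obtain ⟨l, τ, hl⟩ := A.exists_tau β
  refine ⟨l, fun α hα => ?_⟩
  have h2 := hx ⟨α, hα⟩
  have h3 : ((α * β : MulAut L) : MulAut L ⧸ A.MT) = (β : MulAut L ⧸ A.MT) := h2
  rw [eq_comm, QuotientGroup.eq] at h3
  have h4 := mul_mem (mul_mem hl.mem_MT h3) (inv_mem hl.mem_MT)
  convert h4 using 1
  group

theorem isPGroup_zpowers {α : MulAut L} {n : ℕ} (h : α ^ (2 ^ n) = 1) :
    IsPGroup 2 (Subgroup.zpowers α) := by
  intro x
  obtain ⟨x, hx⟩ := x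
  obtain ⟨k, rfl⟩ := Subgroup.mem_zpowers_iff.mp hx
  refine ⟨n, ?_⟩
  apply Subtype.ext
  show (α ^ k) ^ (2 ^ n) = 1
  rw [← zpow_natCast, ← zpow_mul, mul_comm, zpow_mul, zpow_natCast, h, one_zpow]

theorem exists_conj_cd {α : MulAut L} {n : ℕ} (h : α ^ (2 ^ n) = 1) :
    ∃ l p τ, A.Cd (MulAut.conj l * α * (MulAut.conj l)⁻¹) p τ := by
  obtain ⟨l, hl⟩ := A.exists_conj_MT _ (isPGroup_zpowers h)
  obtain ⟨p, τ, hp⟩ := hl α (Subgroup.mem_zpowers α)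
  exact ⟨l, p, τ, hp⟩

theorem x02_conj (A : Dat L) (c : F4) (h : c ≠ 0) : ∃ g, g * A.x 0 2 c * g⁻¹ = A.x 0 2 1 := by
  cases c
  · exact absurd rfl h
  · exact ⟨1, by rw [one_mul, inv_one, mul_one]; rfl⟩
  · refine ⟨A.h⁻¹, ?_⟩
    rw [inv_inv, A.h_x 0 2 (by decide)]
    rfl
  · refine ⟨A.h, ?_⟩
    have := A.h_x 0 2 (by decide) 1
    have e : kap 0 2 * 1 = F4.v := rfl
    rw [e] at this
    rw [← this]; group

theorem x01_conj (A : Dat L) (a : F4) (h : a ≠ 0) : ∃ g, g * A.x 0 1 a * g⁻¹ = A.x 0 2 1 := by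
  obtain ⟨g, hg⟩ := A.x02_conj a h
  have := A.x_wey 1 2 0 1 (by decide) (by decide) a
  have e1 : Equiv.swap (1 : Fin 3) 2 0 = 0 := by decide
  have e2 : Equiv.swap (1 : Fin 3) 2 1 = 2 := by decide
  rw [e1, e2] at this
  refine ⟨g * (A.x 1 2 1 * A.x 2 1 1 * A.x 1 2 1)⁻¹, ?_⟩
  rw [← hg, ← this]
  group

theorem x12_conj (A : Dat L) (b : F4) (h : b ≠ 0) : ∃ g, g * A.x 1 2 b * g⁻¹ = A.x 0 2 1 := by
  obtain ⟨g, hg⟩ := A.x02_conj b h
  have := A.x_wey 0 1 1 2 (by decide) (by decide) b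
  have e1 : Equiv.swap (0 : Fin 3) 1 1 = 0 := by decide
  have e2 : Equiv.swap (0 : Fin 3) 1 2 = 2 := by decide
  rw [e1, e2] at this
  refine ⟨g * (A.x 0 1 1 * A.x 1 0 1 * A.x 0 1 1)⁻¹, ?_⟩
  rw [← hg, ← this]
  group

/-- codes of involutions of `T` are conjugate to `x₀₂(1)` -/
theorem el_conj (A : Dat L) (p : Code) (h1 : p ≠ cone) (h2 : cmul p p = cone) :
    ∃ g, g * A.el p * g⁻¹ = A.x 0 2 1 := by
  obtain ⟨a, b, c⟩ := p
  obtain ⟨a', b', hr⟩ := inv_inner' a b c (inv_inner a b c h2) h1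
  set r := cmul (cmul ⟨a', b', 0⟩ ⟨a, b, c⟩) (cinv ⟨a', b', 0⟩) with hrdef
  have hr' : A.el r = A.el ⟨a', b', 0⟩ * A.el ⟨a, b, c⟩ * (A.el ⟨a', b', 0⟩)⁻¹ := by
    rw [hrdef, ← A.el_mul, ← A.el_mul, A.el_inv]
  have hr1 : r ≠ cone := by
    intro h
    rw [h, A.el_one] at hr'
    apply h1
    have : A.el ⟨a, b, c⟩ = (A.el ⟨a', b', 0⟩)⁻¹ * (A.el ⟨a', b', 0⟩ * A.el ⟨a, b, c⟩ *
      (A.el ⟨a', b', 0⟩)⁻¹) * A.el ⟨a', b', 0⟩ := by group
    rw [← hr', mul_one, inv_mul_cancel] at this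
    exact A.el_eq_one.mp this
  have key : ∃ g, g * A.el r * g⁻¹ = A.x 0 2 1 := by
    rcases hr with ⟨ha, hb⟩ | ⟨hb, hc⟩ | ⟨ha, hc⟩
    · have hne : r.c ≠ 0 := fun h => hr1 (by
        rw [show r = ⟨r.a, r.b, r.c⟩ from rfl, ha, hb, h]; rfl)
      have : A.el r = A.x 0 2 r.c := by
        rw [← A.el_x02, show r = ⟨r.a, r.b, r.c⟩ from rfl, ha, hb]
      rw [this]
      exact A.x02_conj _ hne
    · have hne : r.a ≠ 0 := fun h => hr1 (by
        rw [show r = ⟨r.a, r.b, r.c⟩ from rfl, h, hb, hc]; rfl)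
      have : A.el r = A.x 0 1 r.a := by
        rw [← A.el_x01, show r = ⟨r.a, r.b, r.c⟩ from rfl, hb, hc]
      rw [this]
      exact A.x01_conj _ hne
    · have hne : r.b ≠ 0 := fun h => hr1 (by
        rw [show r = ⟨r.a, r.b, r.c⟩ from rfl, ha, h, hc]; rfl)
      have : A.el r = A.x 1 2 r.b := by
        rw [← A.el_x12, show r = ⟨r.a, r.b, r.c⟩ from rfl, ha, hc]
      rw [this]
      exact A.x12_conj _ hne
  obtain ⟨g, hg⟩ := key
  exact ⟨g * A.el ⟨a', b', 0⟩, by rw [← hg, hr']; group⟩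

/-- **All involutions of `L` are conjugate.** -/
theorem invol_conj (A : Dat L) (l : L) (h1 : l ≠ 1) (h2 : l * l = 1) :
    ∃ g, g * l * g⁻¹ = A.x 0 2 1 := by
  obtain ⟨m, p, τ, hcd⟩ := A.exists_conj_cd (α := MulAut.conj l) (n := 1)
    (by rw [pow_one, pow_two, ← map_mul, h2, map_one])
  have e1 : MulAut.conj m * MulAut.conj l * (MulAut.conj m)⁻¹ = MulAut.conj (m * l * m⁻¹) := by
    rw [map_mul, map_mul, map_inv]
  rw [e1] at hcd
  have h3 : τ = ty1 := hcd.hasTy.unique (A.hasTy_conj _)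
  subst h3
  have h4 := A.conj_injective hcd.eq_conj
  have h5 : A.el (cinv p) * A.el (cinv p) = 1 := by
    rw [← h4]
    calc m * l * m⁻¹ * (m * l * m⁻¹) = m * (l * l) * m⁻¹ := by group
      _ = 1 := by rw [h2]; group
  have h6 : A.el (cinv p) ≠ 1 := by
    rw [← h4]
    intro h
    apply h1
    have : l = m⁻¹ * (m * l * m⁻¹) * m := by group
    rw [this, h]; group
  rw [A.el_mul, A.el_eq_one] at h5
  obtain ⟨g, hg⟩ := A.el_conj (cinv p) (fun h => h6 (A.el_eq_one.mpr h)) h5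
  exact ⟨g * m, by rw [← hg, ← h4]; group⟩

/-- **Classes of involutory automorphisms.** -/
theorem inv_class (v : MulAut L) (h1 : v ≠ 1) (h2 : v * v = 1) :
    ∃ l, (∃ τ, τ ≠ ty1 ∧ A.IsTau τ (MulAut.conj l * v * (MulAut.conj l)⁻¹)) ∨
      MulAut.conj l * v * (MulAut.conj l)⁻¹ = MulAut.conj (A.x 0 2 1) := by
  obtain ⟨l, p, τ, hcd⟩ := A.exists_conj_cd (α := v) (n := 1) (by rw [pow_one, pow_two, h2])
  set v' := MulAut.conj l * v * (MulAut.conj l)⁻¹ with hv'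
  have h1' : v' ≠ 1 := by
    intro h
    apply h1
    have : v = (MulAut.conj l)⁻¹ * v' * MulAut.conj l := by rw [hv']; group
    rw [this, h]; group
  have h2' : v' * v' = 1 := by
    calc v' * v' = MulAut.conj l * (v * v) * (MulAut.conj l)⁻¹ := by rw [hv']; group
      _ = 1 := by rw [h2]; group
  by_cases hτ : τ = ty1
  · subst hτ
    have h3 := hcd.eq_conj
    set r := A.el (cinv p) with hr
    obtain ⟨g, hg⟩ := A.invol_conj r (by
      intro h; rw [h, map_one] at h3; exact h1' h3) (by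
      apply A.conj_injective
      rw [map_mul, ← h3, h2', map_one])
    refine ⟨g * l, Or.inr ?_⟩
    calc MulAut.conj (g * l) * v * (MulAut.conj (g * l))⁻¹
        = MulAut.conj g * v' * (MulAut.conj g)⁻¹ := by rw [hv', map_mul]; group
      _ = _ := by rw [h3, ← hg, map_mul, map_mul, map_inv]
  · have hsq := hcd.mul hcd
    rw [h2'] at hsq
    obtain ⟨h3, h4⟩ := hsq.one
    obtain ⟨a', b', c', hq⟩ := inv_outer τ p.a p.b p.c hτ h3 h4
    have hc2 := hcd.conj ⟨a', b', c'⟩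
    refine ⟨A.el ⟨a', b', c'⟩ * l, Or.inl ⟨τ, hτ, ?_⟩⟩
    have hq' : cmul (ctau τ ⟨a', b', c'⟩) (cmul p (cinv ⟨a', b', c'⟩)) = cone := hq
    rw [hq'] at hc2
    have := hc2.cone
    convert this using 1
    rw [hv', map_mul]; group

end Dat

end Cfsg.Agent.LThreeFour
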