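import Cfsg.Agent.LThreeFour.Dat

/-!
# Automorphisms of `L3(4)` and their codes
-/

set_option autoImplicit false
set_option linter.constructorNameAsVariable false
set_option linter.unusedVariables false

namespace Cfsg.Agent.LThreeFour

open Cfsg.Agent.SporadicA.FieldFour
open Cfsg.Agent.ONType.Psl (kap)
open Cfsg.Agent.ONType.OuterL (rv rv_ne rv_rv)

/-- finite fact: a coded automorphism fixing the generators of `T` is trivial -/
theorem fix_T : ∀ (τ : Ty) a b c, (∀ y ∈ ([⟨1, 0, 0⟩, ⟨F4.w, 0, 0⟩, ⟨0, 1, 0⟩, ⟨0, F4.w, 0⟩] : List Code),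
    cact ⟨a, b, c⟩ τ y = y) → τ = ty1 ∧ a = 0 ∧ b = 0 := by
  decide +kernel

theorem comm_aux : ∀ a b c, cmul ⟨a, b, c⟩ ⟨1, 0, 0⟩ = cmul ⟨1, 0, 0⟩ ⟨a, b, c⟩ →
    cmul ⟨a, b, c⟩ ⟨0, 1, 0⟩ = cmul ⟨0, 1, 0⟩ ⟨a, b, c⟩ → a = 0 ∧ b = 0 := by
  decide +kernel

theorem cinv_cinv (p : Code) : cinv (cinv p) = p := by revert p; decide +kernel

namespace Dat

variable {L : Type*} [Group L] {A : Dat L}

theorem hom_ext {β β' : MulAut L} (h : ∀ i j, i ≠ j → ∀ u, β (A.x i j u) = β' (A.x i j u)) :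
    β = β' := by
  have key := MonoidHom.eq_of_eqOn_dense A.gen (f := β.toMonoidHom) (g := β'.toMonoidHom)
    (by rintro _ ⟨i, j, u, hij, rfl⟩; exact h i j hij u)
  ext y
  exact DFunLike.congr_fun key y

theorem IsTau.ext {τ : Ty} {β β' : MulAut L} (h : A.IsTau τ β) (h' : A.IsTau τ β') : β = β' :=
  hom_ext fun i j hij u => (h i j hij u).trans (h' i j hij u).symm

theorem imgx_ty1 (i j : Fin 3) (u : F4) : imgx A.x ty1 i j u = A.x i j u := by
  have : ∀ i j u, pu ty1 i j u = u := by decide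
  rw [imgx, this]; rfl

theorem isTau_one : A.IsTau ty1 1 := fun i j hij u => by
  rw [imgx_ty1, MulAut.one_apply]

theorem IsTau.imgx {τ : Ty} {β : MulAut L} (h : A.IsTau τ β) (τ' : Ty) (i j : Fin 3) (hij : i ≠ j)
    (u : F4) : β (LThreeFour.imgx A.x τ' i j u) = LThreeFour.imgx A.x (τ.mul τ') i j u := by
  rw [← imgx_imgx, LThreeFour.imgx]
  split
  · exact h (rv j) (rv i) (rv_ne hij.symm) _
  · exact h i j hij _

theorem IsTau.mul {τ τ' : Ty} {β β' : MulAut L} (h : A.IsTau τ β) (h' : A.IsTau τ' β') :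
    A.IsTau (τ.mul τ') (β * β') := by
  intro i j hij u
  rw [MulAut.mul_apply, h' i j hij u]
  exact h.imgx τ' i j hij u

theorem IsTau.inv {τ : Ty} {β : MulAut L} (h : A.IsTau τ β) : A.IsTau τ.inv β⁻¹ := by
  intro i j hij u
  have h1 := h.imgx τ.inv i j hij u
  rw [Ty.mul_inv, imgx_ty1] at h1
  rw [← h1, MulAut.inv_apply_self]

theorem conj_map (β : MulAut L) (l : L) : MulAut.conj (β l) = β * MulAut.conj l * β⁻¹ := by
  ext y
  simp [MulAut.conj_apply, MulAut.mul_apply]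

theorem IsTau.conj {τ : Ty} {β : MulAut L} (h : A.IsTau τ β) (p : Code) :
    MulAut.conj (A.el (ctau τ p)) = β * MulAut.conj (A.el p) * β⁻¹ := by
  rw [← conj_map, h.el]

variable (A) in
/-- `α` is `y ↦ p⁻¹ τ(y) p` -/
def Cd (α : MulAut L) (p : Code) (τ : Ty) : Prop := A.IsTau τ (MulAut.conj (A.el p) * α)

theorem Cd.apply {α : MulAut L} {p : Code} {τ : Ty} (h : A.Cd α p τ) (y : Code) :
    α (A.el y) = A.el (cact p τ y) := by
  have h1 := IsTau.el h y
  rw [MulAut.mul_apply, MulAut.conj_apply] at h1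
  rw [cact, ← A.el_mul, ← A.el_mul, ← A.el_inv, ← h1]
  group

theorem IsTau.cd {τ : Ty} {β : MulAut L} (h : A.IsTau τ β) : A.Cd β cone τ := by
  unfold Cd
  rwa [A.el_one, map_one, one_mul]

theorem Cd.mul {α β : MulAut L} {p q : Code} {τ ρ : Ty} (h : A.Cd α p τ) (h' : A.Cd β q ρ) :
    A.Cd (α * β) (cmul (ctau τ q) p) (τ.mul ρ) := by
  have key := IsTau.mul h h'
  have e1 := IsTau.conj h q
  unfold Cd
  rw [← A.el_mul, map_mul, e1]
  convert key using 1
  rw [mul_inv_rev]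
  group

theorem Cd.inv {α : MulAut L} {p : Code} {τ : Ty} (h : A.Cd α p τ) :
    A.Cd α⁻¹ (cinv (ctau τ.inv p)) τ.inv := by
  have h1 := IsTau.inv h
  have e1 := IsTau.conj h1 p
  unfold Cd at *
  rw [← A.el_inv, map_inv, e1]
  convert h1 using 1
  group

theorem Cd.conj {α : MulAut L} {p : Code} {τ : Ty} (h : A.Cd α p τ) (q : Code) :
    A.Cd (MulAut.conj (A.el q) * α * (MulAut.conj (A.el q))⁻¹)
      (cmul (ctau τ q) (cmul p (cinv q))) τ := by
  have e1 := IsTau.conj h q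
  unfold Cd at *
  rw [← A.el_mul, ← A.el_mul, ← A.el_inv, map_mul, map_mul, map_inv, e1]
  convert h using 1
  group

theorem Cd.cone {α : MulAut L} {τ : Ty} (h : A.Cd α cone τ) : A.IsTau τ α := by
  unfold Cd at h
  rwa [A.el_one, map_one, one_mul] at h

/-- the code of an inner automorphism by an element of `T` -/
theorem cd_conj (p : Code) : A.Cd (MulAut.conj (A.el p)) (cinv p) ty1 := by
  unfold Cd
  rw [← A.el_inv, map_inv, inv_mul_cancel]
  exact isTau_one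

theorem Cd.eq_conj {α : MulAut L} {p : Code} (h : A.Cd α p ty1) :
    α = MulAut.conj (A.el (cinv p)) := by
  have h1 : MulAut.conj (A.el p) * α = 1 := IsTau.ext h isTau_one
  rw [← A.el_inv, map_inv]
  exact eq_inv_of_mul_eq_one_right h1

theorem conj_inj_el (A : Dat L) {p : Code} (h : MulAut.conj (A.el p) = 1) :
    p = LThreeFour.cone := by
  obtain ⟨a, b, c⟩ := p
  have key : ∀ y, A.el (cmul ⟨a, b, c⟩ y) = A.el (cmul y ⟨a, b, c⟩) := by
    intro y
    rw [← A.el_mul, ← A.el_mul]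
    have := DFunLike.congr_fun h (A.el y)
    rw [MulAut.conj_apply, MulAut.one_apply] at this
    exact mul_inv_eq_iff_eq_mul.mp this
  have h1 := A.inj (key ⟨1, 0, 0⟩)
  have h2 := A.inj (key ⟨0, 1, 0⟩)
  have h3 : a = 0 ∧ b = 0 := comm_aux a b c h1 h2
  obtain ⟨rfl, rfl⟩ := h3
  -- `x₀₂(c)` commutes with `x₂₀(1)`
  rw [A.el_x02] at h
  have h4 : ∀ u, A.x 0 2 c * A.x 2 1 u = A.x 2 1 u * A.x 0 2 c := by
    intro u
    have := DFunLike.congr_fun h (A.x 2 1 u)
    rw [MulAut.conj_apply, MulAut.one_apply] at this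
    exact mul_inv_eq_iff_eq_mul.mp this
  have h5 := A.x_sum 0 1 2 (by decide) (by decide) (by decide) c 1
  rw [h4 1, mul_one] at h5
  have h6 : A.x 0 1 c = 1 := mul_eq_left.mp h5.symm
  rw [← A.el_x01, A.el_eq_one] at h6
  have : c = 0 := congrArg Code.a h6
  subst this
  rfl

/-- the centre is trivial (via the Sylow subgroup) -/
theorem conj_eq_one (A : Dat L) {l : L} (h : MulAut.conj l = 1) : l = 1 := by
  have h1 : l * A.x 0 2 1 = A.x 0 2 1 * l := by
    have := DFunLike.congr_fun h (A.x 0 2 1)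
    rw [MulAut.conj_apply, MulAut.one_apply] at this
    exact mul_inv_eq_iff_eq_mul.mp this
  obtain ⟨p, rfl⟩ := A.cent l h1
  have := A.conj_inj_el h
  subst this
  exact A.el_one

theorem conj_injective (A : Dat L) : Function.Injective (MulAut.conj : L →* MulAut L) := by
  rw [injective_iff_map_eq_one]
  exact fun l h => A.conj_eq_one h

/-- an automorphism fixing `T` pointwise is conjugation by a central element of `T` -/
theorem Cd.fix {α : MulAut L} {p : Code} {τ : Ty} (h : A.Cd α p τ)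
    (hf : ∀ y ∈ ([⟨1, 0, 0⟩, ⟨F4.w, 0, 0⟩, ⟨0, 1, 0⟩, ⟨0, F4.w, 0⟩] : List Code),
      α (A.el y) = A.el y) : τ = ty1 ∧ p.a = 0 ∧ p.b = 0 :=
  fix_T τ p.a p.b p.c (fun y hy => by
    apply A.inj
    have := hf y hy
    rw [h.apply] at this
    exact this)

theorem Cd.one {p : Code} {τ : Ty} (h : A.Cd 1 p τ) : τ = ty1 ∧ p = LThreeFour.cone := by
  have h1 := (h.fix (fun y _ => rfl)).1
  subst h1
  refine ⟨rfl, ?_⟩
  have h2 := h.eq_conj
  have h3 := A.conj_inj_el h2.symm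
  rw [← cinv_cinv p, h3]; rfl

theorem Cd.unique {α : MulAut L} {p q : Code} {τ ρ : Ty} (h : A.Cd α p τ) (h' : A.Cd α q ρ) :
    ρ = τ ∧ q = p := by
  have h1 := h.inv.mul h'
  rw [inv_mul_cancel] at h1
  obtain ⟨h2, h3⟩ := h1.one
  have h4 : ρ = τ := Ty.eq_of_inv_mul _ _ h2
  subst h4
  refine ⟨rfl, ?_⟩
  have h5 : MulAut.conj (A.el q) * α = MulAut.conj (A.el p) * α := IsTau.ext h' h
  have h6 := mul_right_cancel h5
  exact A.inj (A.conj_injective h6)

theorem IsTau.unique {τ ρ : Ty} {β : MulAut L} {n : L} (h : A.IsTau τ β)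
    (h' : A.IsTau ρ (MulAut.conj n * β)) : ρ = τ ∧ n = 1 := by
  have h1 : n * A.x 0 2 1 = A.x 0 2 1 * n := by
    have h2 := h'.x02 1
    rw [MulAut.mul_apply, h.x02 1, MulAut.conj_apply] at h2
    have e1 : ∀ e, fr e (1 : F4) = 1 := by decide
    rw [e1, e1] at h2
    exact mul_inv_eq_iff_eq_mul.mp h2
  obtain ⟨p, rfl⟩ := A.cent n h1
  have h2 : A.Cd β p ρ := h'
  obtain ⟨h3, h4⟩ := h.cd.unique h2
  subst h4
  exact ⟨h3, A.el_one⟩

end Dat

end Cfsg.Agent.LThreeFour
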