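import Cfsg.Agent.StdL34.PslCent
import Cfsg.Agent.ONType.OuterL

/-!
# Coded Sylow 2-subgroup of `L3(4)` and the pure outer automorphisms: finite computations

`x₀₁(a) x₁₂(b) x₀₂(c)` is coded by `⟨a, b, c⟩`. A pure outer type `(e, f, d)` is: field automorphism if `e`,
then the diagonal automorphism number `d`, then the graph automorphism if `f`.
-/

set_option autoImplicit false
set_option linter.constructorNameAsVariable false

namespace Cfsg.Agent.LThreeFour

open Cfsg.Agent.SporadicA.FieldFour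
open Cfsg.Agent.ONType.OuterL (rv rv_ne rv_rv)

/-- codes -/
structure Code where
  a : F4
  b : F4
  c : F4
  deriving DecidableEq

/-- product of codes -/
def cmul (p q : Code) : Code := ⟨p.a + q.a, p.b + q.b, q.a * p.b + p.c + q.c⟩

/-- the trivial code -/
def cone : Code := ⟨0, 0, 0⟩

/-- inverse code -/
def cinv (p : Code) : Code := ⟨p.a, p.b, p.c + p.a * p.b⟩

/-- Outer types: `(field, graph, diagonal)`. -/
abbrev Ty : Type := Bool × Bool × Fin 3

/-- the trivial type -/
abbrev ty1 : Ty := (false, false, 0)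

/-- field twist -/
def fr (e : Bool) (u : F4) : F4 := if e then u * u else u

/-- powers of `ω` -/
def om (d : Fin 3) : F4 := if d = 0 then 1 else if d = 1 then F4.w else F4.v

/-- diagonal entries -/
def gd (d : Fin 3) (i : Fin 3) : F4 := if i = 1 then 1 else om d

/-- character of the diagonal automorphism on a root group -/
def dg (d : Fin 3) (i j : Fin 3) : F4 := gd d i * gd (-d) j

/-- image of the parameter of a root element -/
def pu (τ : Ty) (i j : Fin 3) (u : F4) : F4 := dg τ.2.2 i j * fr τ.1 u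

/-- image of a root element under a pure outer type -/
def imgx {L : Type*} (x : Fin 3 → Fin 3 → F4 → L) (τ : Ty) (i j : Fin 3) (u : F4) : L :=
  if τ.2.1 then x (rv j) (rv i) (pu τ i j u) else x i j (pu τ i j u)

/-- product of outer types: `τ'` first -/
def Ty.mul (τ τ' : Ty) : Ty :=
  (xor τ.1 τ'.1, xor τ.2.1 τ'.2.1,
    (if τ'.2.1 then -τ.2.2 else τ.2.2) + (if τ.1 then -τ'.2.2 else τ'.2.2))

/-- inverse type -/
def Ty.inv (τ : Ty) : Ty :=
  (τ.1, τ.2.1, if xor τ.1 τ.2.1 then τ.2.2 else -τ.2.2)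

/-- the action of a pure outer type on codes -/
def ctau (τ : Ty) (p : Code) : Code :=
  if τ.2.1 then
    cmul (cmul ⟨0, pu τ 0 1 p.a, 0⟩ ⟨pu τ 1 2 p.b, 0, 0⟩) ⟨0, 0, pu τ 0 2 p.c⟩
  else ⟨pu τ 0 1 p.a, pu τ 1 2 p.b, pu τ 0 2 p.c⟩

/-- action of `y ↦ p⁻¹ τ(y) p` on codes -/
def cact (p : Code) (τ : Ty) (y : Code) : Code :=
  cmul (cmul (cinv p) (ctau τ y)) p

theorem forall_code {P : Code → Prop} : (∀ p, P p) ↔ ∀ a b c, P ⟨a, b, c⟩ :=
  ⟨fun h a b c => h _, fun h p => h p.a p.b p.c⟩

instance {P : Code → Prop} [DecidablePred P] : Decidable (∀ p, P p) :=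
  decidable_of_iff _ forall_code.symm

theorem exists_code {P : Code → Prop} : (∃ p, P p) ↔ ∃ a b c, P ⟨a, b, c⟩ :=
  ⟨fun ⟨p, h⟩ => ⟨p.a, p.b, p.c, h⟩, fun ⟨_, _, _, h⟩ => ⟨_, h⟩⟩

instance {P : Code → Prop} [DecidablePred P] : Decidable (∃ p, P p) :=
  decidable_of_iff _ exists_code.symm

instance : Fintype Code :=
  Fintype.ofEquiv (F4 × F4 × F4)
    { toFun := fun t => ⟨t.1, t.2.1, t.2.2⟩
      invFun := fun p => (p.a, p.b, p.c)
      left_inv := fun _ => rfl
      right_inv := fun _ => rfl }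

theorem card_code : Nat.card Code = 64 := by
  rw [Nat.card_eq_fintype_card]; decide +kernel

theorem cmul_cinv (p : Code) : cmul p (cinv p) = cone := by
  revert p; decide +kernel

theorem cinv_cmul (p : Code) : cmul (cinv p) p = cone := by
  revert p; decide +kernel

theorem cmul_cone (p : Code) : cmul p cone = p := by
  revert p; decide +kernel

theorem cone_cmul (p : Code) : cmul cone p = p := by
  revert p; decide +kernel

theorem cmul_assoc (p q r : Code) : cmul (cmul p q) r = cmul p (cmul q r) := by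
  obtain ⟨a, b, c⟩ := p
  obtain ⟨a', b', c'⟩ := q
  obtain ⟨a'', b'', c''⟩ := r
  unfold cmul
  simp only [Code.mk.injEq]
  refine ⟨add_assoc _ _ _, add_assoc _ _ _, ?_⟩
  ring

theorem ctau_ty1 (p : Code) : ctau ty1 p = p := by
  revert p; decide +kernel

theorem Ty.mul_inv : ∀ τ : Ty, τ.mul τ.inv = ty1 := by decide

theorem Ty.inv_mul : ∀ τ : Ty, τ.inv.mul τ = ty1 := by decide

theorem Ty.mul_assoc : ∀ τ ρ σ : Ty, (τ.mul ρ).mul σ = τ.mul (ρ.mul σ) := by decide +kernel

theorem Ty.one_mul : ∀ τ : Ty, ty1.mul τ = τ := by decide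

theorem Ty.mul_one : ∀ τ : Ty, τ.mul ty1 = τ := by decide

theorem Ty.eq_of_inv_mul : ∀ τ ρ : Ty, τ.inv.mul ρ = ty1 → ρ = τ := by decide +kernel

theorem dg_mul : ∀ d d' i j, dg d i j * dg d' i j = dg (d + d') i j := by decide +kernel

theorem fr_fr : ∀ e e' u, fr e (fr e' u) = fr (xor e e') u := by decide

theorem fr_mul : ∀ e u v, fr e (u * v) = fr e u * fr e v := by decide

theorem fr_add : ∀ e u v, fr e (u + v) = fr e u + fr e v := by decide

theorem fr_dg : ∀ e d i j, fr e (dg d i j) = dg (if e then -d else d) i j := by decide +kernel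

theorem dg_rv : ∀ d i j, dg d (rv j) (rv i) = dg (-d) i j := by decide +kernel

theorem dg_zero : ∀ i j, dg 0 i j = 1 := by decide

theorem dg_02 : ∀ d, dg d 0 2 = 1 := by decide

/-- composition of parameters, no inner graph -/
theorem pu_pu : ∀ (τ τ' : Ty) i j u, τ'.2.1 = false →
    pu τ i j (pu τ' i j u) = pu (τ.mul τ') i j u := by
  decide +kernel

theorem pu_pu' : ∀ (τ τ' : Ty) i j u, τ'.2.1 = true →
    pu τ (rv j) (rv i) (pu τ' i j u) = pu (τ.mul τ') i j u := by
  decide +kernel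

theorem imgx_imgx {L : Type*} (x : Fin 3 → Fin 3 → F4 → L) (τ τ' : Ty) (i j : Fin 3) (u : F4) :
    (if τ'.2.1 then imgx x τ (rv j) (rv i) (pu τ' i j u) else imgx x τ i j (pu τ' i j u)) =
      imgx x (τ.mul τ') i j u := by
  cases h' : τ'.2.1 <;> cases h : τ.2.1
  · simp only [imgx, h, Ty.mul, h', Bool.false_eq_true, if_false, Bool.xor_false]
    rw [pu_pu τ τ' i j u h']; simp only [Ty.mul, h, h', Bool.false_eq_true, if_false, Bool.xor_false]
  · simp only [imgx, h, Ty.mul, h', Bool.false_eq_true, if_false, if_true, Bool.xor_false]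
    rw [pu_pu τ τ' i j u h']; simp only [Ty.mul, h, h', Bool.false_eq_true, if_false, Bool.xor_false]
  · simp only [imgx, h, Ty.mul, h', Bool.false_eq_true, if_false, if_true, Bool.xor_true, Bool.not_false]
    rw [pu_pu' τ τ' i j u h']; simp only [Ty.mul, h, h', if_true, Bool.xor_true, Bool.not_false]
  · simp only [imgx, h, Ty.mul, h', Bool.false_eq_true, if_false, if_true, Bool.xor_true, Bool.not_true,
      rv_rv]
    rw [pu_pu' τ τ' i j u h']; simp only [Ty.mul, h, h', if_true, Bool.xor_true, Bool.not_true]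

end Cfsg.Agent.LThreeFour
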