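import Cfsg.Agent.LThreeFour.Code

/-!
# Abstract `L3(4)` with coordinates
-/

set_option autoImplicit false
set_option linter.constructorNameAsVariable false
set_option linter.unusedVariables false

namespace Cfsg.Agent.LThreeFour

open Cfsg.Agent.SporadicA.FieldFour
open Cfsg.Agent.ONType.Psl (kap)
open Cfsg.Agent.ONType.OuterL (rv rv_ne rv_rv)

/-- value of a code -/
def elx {L : Type*} [Group L] (x : Fin 3 → Fin 3 → F4 → L) (p : Code) : L :=
  x 0 1 p.a * x 1 2 p.b * x 0 2 p.c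

/-- Coordinates on a group isomorphic to `PSL(3,4)`. -/
structure Dat (L : Type*) [Group L] where
  x : Fin 3 → Fin 3 → F4 → L
  h : L
  x_add : ∀ i j, i ≠ j → ∀ u v, x i j u * x i j v = x i j (u + v)
  x_row : ∀ i j k, i ≠ j → i ≠ k → ∀ u v, x i j u * x i k v = x i k v * x i j u
  x_col : ∀ i j k, i ≠ j → k ≠ j → ∀ u v, x i j u * x k j v = x k j v * x i j u
  x_sum : ∀ i j k, i ≠ j → i ≠ k → j ≠ k → ∀ u v,
    x i k u * x k j v = x k j v * x i k u * x i j (u * v)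
  x_wey : ∀ i j k l, i ≠ j → k ≠ l → ∀ u,
    (x i j 1 * x j i 1 * x i j 1)⁻¹ * x k l u * (x i j 1 * x j i 1 * x i j 1)
      = x (Equiv.swap i j k) (Equiv.swap i j l) u
  h_pow : h ^ 3 = 1
  h_x : ∀ i j, i ≠ j → ∀ u, h⁻¹ * x i j u * h = x i j (kap i j * u)
  h_eq : ∀ i j, i ≠ j →
    x i j (kap i j) * x j i (kap j i) * x i j (kap i j) * (x i j 1 * x j i 1 * x i j 1) = h
  el_inj : Function.Injective (elx x)
  gen : Subgroup.closure {y | ∃ i j u, i ≠ j ∧ y = x i j u} = ⊤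
  odd_index : ∃ T : Subgroup L, (∀ l, l ∈ T ↔ ∃ p, l = elx x p) ∧ ¬ 2 ∣ T.index
  cent : ∀ l, l * x 0 2 1 = x 0 2 1 * l → ∃ p, l = elx x p
  outer : ∀ α : MulAut L, ∃ (l : L) (τ : Ty), ∀ i j, i ≠ j → ∀ u,
    l * α (x i j u) * l⁻¹ = imgx x τ i j u
  card : Nat.card L = 20160
  r_pow : (x 0 2 1 * x 2 0 1) ^ 3 = 1
  r_ne : x 0 2 1 * x 2 0 1 ≠ 1

namespace Dat

variable {L : Type*} [Group L] (A : Dat L)

/-- value of a code -/
def el (p : Code) : L := elx A.x p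

theorem el_eq (p : Code) : A.el p = A.x 0 1 p.a * A.x 1 2 p.b * A.x 0 2 p.c := rfl

theorem x_zero (i j : Fin 3) (h : i ≠ j) : A.x i j 0 = 1 := by
  have := A.x_add i j h 0 0
  rw [add_zero] at this
  exact mul_eq_left.mp this

theorem add_self (u : F4) : u + u = 0 := by revert u; decide

theorem x_sq (i j : Fin 3) (h : i ≠ j) (u : F4) : A.x i j u * A.x i j u = 1 := by
  rw [A.x_add i j h, add_self, A.x_zero i j h]

theorem x_inv (i j : Fin 3) (h : i ≠ j) (u : F4) : (A.x i j u)⁻¹ = A.x i j u :=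
  inv_eq_of_mul_eq_one_left (A.x_sq i j h u)

theorem swap' (b a : F4) : A.x 1 2 b * A.x 0 1 a =
    A.x 0 1 a * A.x 1 2 b * A.x 0 2 (a * b) := by
  have h := A.x_sum 0 2 1 (by decide) (by decide) (by decide) a b
  rw [h, mul_assoc, A.x_sq 0 2 (by decide), mul_one]

theorem el_mul (p q : Code) : A.el p * A.el q = A.el (cmul p q) := by
  obtain ⟨a, b, c⟩ := p
  obtain ⟨a', b', c'⟩ := q
  simp only [el_eq, cmul]
  have e1 := A.x_row 0 2 1 (by decide) (by decide) c a'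
  have e2 := A.swap' b a'
  have e3 := A.x_col 0 2 1 (by decide) (by decide) (a' * b + c) b'
  have a1 := A.x_add 0 1 (by decide) a a'
  have a2 := A.x_add 1 2 (by decide) b b'
  have a3 := A.x_add 0 2 (by decide) (a' * b) c
  have a4 := A.x_add 0 2 (by decide) (a' * b + c) c'
  calc A.x 0 1 a * A.x 1 2 b * A.x 0 2 c * (A.x 0 1 a' * A.x 1 2 b' * A.x 0 2 c')
      = A.x 0 1 a * A.x 1 2 b * (A.x 0 2 c * A.x 0 1 a') * A.x 1 2 b' * A.x 0 2 c' := by group
    _ = A.x 0 1 a * (A.x 1 2 b * A.x 0 1 a') * A.x 0 2 c * A.x 1 2 b' * A.x 0 2 c' := by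
        rw [e1]; group
    _ = (A.x 0 1 a * A.x 0 1 a') * A.x 1 2 b * ((A.x 0 2 (a' * b) * A.x 0 2 c) * A.x 1 2 b') *
          A.x 0 2 c' := by
        rw [e2]; group
    _ = (A.x 0 1 a * A.x 0 1 a') * (A.x 1 2 b * A.x 1 2 b') * (A.x 0 2 (a' * b + c) *
          A.x 0 2 c') := by
        rw [a3, e3]; group
    _ = _ := by
        rw [a1, a2, a4]

theorem el_one : A.el cone = 1 := by
  simp only [el_eq, cone]
  rw [A.x_zero 0 1 (by decide), A.x_zero 1 2 (by decide), A.x_zero 0 2 (by decide)]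
  simp

theorem el_inv (p : Code) : (A.el p)⁻¹ = A.el (cinv p) := by
  apply inv_eq_of_mul_eq_one_right
  rw [A.el_mul, cmul_cinv, A.el_one]

theorem inj {p q : Code} (h : A.el p = A.el q) : p = q := A.el_inj h

theorem el_eq_one {p : Code} : A.el p = 1 ↔ p = cone := by
  rw [← A.el_one]
  exact ⟨A.inj, fun h => by rw [h]⟩

theorem el_x02 (c : F4) : A.el ⟨0, 0, c⟩ = A.x 0 2 c := by
  simp only [el_eq]
  rw [A.x_zero 0 1 (by decide), A.x_zero 1 2 (by decide)]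
  simp

theorem el_x01 (a : F4) : A.el ⟨a, 0, 0⟩ = A.x 0 1 a := by
  simp only [el_eq]
  rw [A.x_zero 0 2 (by decide), A.x_zero 1 2 (by decide)]
  simp

theorem el_x12 (b : F4) : A.el ⟨0, b, 0⟩ = A.x 1 2 b := by
  simp only [el_eq]
  rw [A.x_zero 0 1 (by decide), A.x_zero 0 2 (by decide)]
  simp

/-- the Sylow 2-subgroup -/
def T : Subgroup L where
  carrier := Set.range A.el
  mul_mem' := by
    rintro _ _ ⟨p, rfl⟩ ⟨q, rfl⟩
    exact ⟨_, (A.el_mul p q).symm⟩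
  one_mem' := ⟨cone, A.el_one⟩
  inv_mem' := by
    rintro _ ⟨p, rfl⟩
    exact ⟨_, (A.el_inv p).symm⟩

theorem mem_T {l : L} : l ∈ A.T ↔ ∃ p, A.el p = l := Iff.rfl

theorem el_mem (p : Code) : A.el p ∈ A.T := ⟨p, rfl⟩

theorem T_index : ¬ 2 ∣ A.T.index := by
  obtain ⟨T, hT, h2⟩ := A.odd_index
  have : T = A.T := by
    ext l; rw [hT, mem_T]
    exact ⟨fun ⟨p, hp⟩ => ⟨p, hp.symm⟩, fun ⟨p, hp⟩ => ⟨p, hp.symm⟩⟩
  rwa [this] at h2

/-- codes of elements of the Sylow 2-subgroup -/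
noncomputable def codeEquiv : Code ≃ A.T :=
  Equiv.ofBijective (fun p => ⟨A.el p, A.el_mem p⟩) ⟨fun p q h => A.inj (congrArg Subtype.val h),
    fun ⟨_, p, hp⟩ => ⟨p, Subtype.ext hp⟩⟩

theorem card_T : Nat.card A.T = 64 := by
  rw [← Nat.card_congr A.codeEquiv, card_code]

/-- `β` acts on the coordinates exactly as the pure outer type `τ` -/
def IsTau (τ : Ty) (β : MulAut L) : Prop :=
  ∀ i j, i ≠ j → ∀ u, β (A.x i j u) = imgx A.x τ i j u

theorem exists_tau (α : MulAut L) : ∃ (l : L) (τ : Ty), A.IsTau τ (MulAut.conj l * α) := A.outer α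

variable {A}

theorem IsTau.x01 {τ : Ty} {β : MulAut L} (h : A.IsTau τ β) (u : F4) :
    β (A.x 0 1 u) = if τ.2.1 then A.x 1 2 (pu τ 0 1 u) else A.x 0 1 (pu τ 0 1 u) :=
  h 0 1 (by decide) u

theorem IsTau.x12 {τ : Ty} {β : MulAut L} (h : A.IsTau τ β) (u : F4) :
    β (A.x 1 2 u) = if τ.2.1 then A.x 0 1 (pu τ 1 2 u) else A.x 1 2 (pu τ 1 2 u) :=
  h 1 2 (by decide) u

theorem pu_02 (τ : Ty) (u : F4) : pu τ 0 2 u = fr τ.1 u := by
  rw [pu, dg_02, one_mul]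

theorem IsTau.x02 {τ : Ty} {β : MulAut L} (h : A.IsTau τ β) (u : F4) :
    β (A.x 0 2 u) = A.x 0 2 (fr τ.1 u) := by
  have := h 0 2 (by decide) u
  rw [this, imgx, pu_02]
  split <;> rfl

theorem pu_20 : ∀ (τ : Ty) (u : F4), pu τ 2 0 u = fr τ.1 u := by
  decide

theorem IsTau.x20 {τ : Ty} {β : MulAut L} (h : A.IsTau τ β) (u : F4) :
    β (A.x 2 0 u) = A.x 2 0 (fr τ.1 u) := by
  have := h 2 0 (by decide) u
  rw [this, imgx, pu_20]
  split <;> rfl

theorem IsTau.el {τ : Ty} {β : MulAut L} (h : A.IsTau τ β) (p : Code) :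
    β (A.el p) = A.el (ctau τ p) := by
  rw [A.el_eq, map_mul, map_mul, h.x01, h.x12, h.x02]
  unfold ctau
  rw [pu_02]
  split
  · rw [← A.el_mul, ← A.el_mul, A.el_x12, A.el_x01, A.el_x02]
  · rfl

theorem kap_cube : ∀ i j u, kap i j * (kap i j * kap i j * u) = u := by decide

theorem h_inv_x (i j : Fin 3) (h : i ≠ j) (u : F4) :
    A.h * A.x i j u * A.h⁻¹ = A.x i j (kap i j * kap i j * u) := by
  have h1 := A.h_x i j h (kap i j * kap i j * u)
  rw [kap_cube] at h1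
  rw [← h1]; group

end Dat

end Cfsg.Agent.LThreeFour
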