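import Cfsg.Agent.LThreeFour.Sub

/-!
# Parabolic subgroups of `L3(4)`; elementary abelian 2-subgroups of `L3(4)` and of its automorphism group
-/

set_option autoImplicit false
set_option linter.constructorNameAsVariable false
set_option linter.unusedVariables false

namespace Cfsg.Agent.LThreeFour

open Cfsg.Agent.SporadicA.FieldFour
open Cfsg.Agent.ONType.Psl (kap)
open Cfsg.Agent.ONType.OuterL (rv rv_ne rv_rv)
open scoped commutatorElement

/-- codes of involutions (and the trivial code) fixed by a pure type -/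
def fxs (τ : Ty) : Finset Code := Finset.univ.filter (fun y => ctau τ y = y ∧ cmul y y = cone)

set_option maxRecDepth 100000 in
theorem card_fxs : ∀ τ : Ty, τ ≠ ty1 → τ.mul τ = ty1 → (fxs τ).card ≤ 6 := by
  decide +kernel

set_option maxRecDepth 100000 in
theorem card_fxs' : ∀ τ : Ty, τ.1 = true → τ.2.1 = true → τ.mul τ = ty1 → (fxs τ).card ≤ 2 := by
  decide +kernel

/-- the field and graph bits of a type -/
def bits (g : TyG) : Bool × Bool := (g.ty.1, g.ty.2.1)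

theorem sq_inner : ∀ g : TyG, bits g = (false, false) → g * g = 1 → g = 1 := by decide +kernel

/-- a bit as an element of `Z/2` -/
def bz (b : Bool) : Multiplicative (ZMod 2) := Multiplicative.ofAdd (if b then 1 else 0)

/-- field and graph bits as a homomorphism -/
def bitsHom : TyG →* Multiplicative (ZMod 2) × Multiplicative (ZMod 2) where
  toFun g := (bz g.ty.1, bz g.ty.2.1)
  map_one' := by decide
  map_mul' := by decide +kernel

theorem bitsHom_inj : ∀ g : TyG, bitsHom g = 1 → g * g = 1 → g = 1 := by decide +kernel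

theorem bitsHom_three : ∀ g : TyG, bitsHom g = (bz true, bz true) → g.ty.1 = true ∧ g.ty.2.1 = true := by
  decide +kernel

namespace Dat

variable {L : Type*} [Group L] (A : Dat L)

include A in
theorem finite : Finite L := Nat.finite_of_card_ne_zero (by rw [A.card]; norm_num)

include A in
theorem finite_aut : Finite (MulAut L) := by
  have := A.finite
  exact Finite.of_injective (fun f : MulAut L => (f : L → L)) DFunLike.coe_injective

/-! ### Parabolic subgroups -/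

/-- the normaliser of `A₁` (generators) -/
def P1 : Subgroup L := Subgroup.closure {y | ∃ u, y = A.x 0 1 u ∨ y = A.x 0 2 u ∨ y = A.x 1 2 u ∨
  y = A.x 2 1 u}

/-- the normaliser of `A₂` (generators) -/
def P2 : Subgroup L := Subgroup.closure {y | ∃ u, y = A.x 1 2 u ∨ y = A.x 0 2 u ∨ y = A.x 0 1 u ∨
  y = A.x 1 0 u}

variable {A}

theorem P1_x01 (u : F4) : A.x 0 1 u ∈ A.P1 := Subgroup.subset_closure ⟨u, Or.inl rfl⟩
theorem P1_x02 (u : F4) : A.x 0 2 u ∈ A.P1 := Subgroup.subset_closure ⟨u, Or.inr (Or.inl rfl)⟩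
theorem P1_x12 (u : F4) : A.x 1 2 u ∈ A.P1 :=
  Subgroup.subset_closure ⟨u, Or.inr (Or.inr (Or.inl rfl))⟩
theorem P1_x21 (u : F4) : A.x 2 1 u ∈ A.P1 :=
  Subgroup.subset_closure ⟨u, Or.inr (Or.inr (Or.inr rfl))⟩
theorem P2_x12 (u : F4) : A.x 1 2 u ∈ A.P2 := Subgroup.subset_closure ⟨u, Or.inl rfl⟩
theorem P2_x02 (u : F4) : A.x 0 2 u ∈ A.P2 := Subgroup.subset_closure ⟨u, Or.inr (Or.inl rfl)⟩
theorem P2_x01 (u : F4) : A.x 0 1 u ∈ A.P2 :=
  Subgroup.subset_closure ⟨u, Or.inr (Or.inr (Or.inl rfl))⟩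
theorem P2_x10 (u : F4) : A.x 1 0 u ∈ A.P2 :=
  Subgroup.subset_closure ⟨u, Or.inr (Or.inr (Or.inr rfl))⟩

theorem T_le_P1 : A.T ≤ A.P1 := by
  rintro _ ⟨p, rfl⟩
  rw [A.el_eq]
  exact mul_mem (mul_mem (P1_x01 _) (P1_x12 _)) (P1_x02 _)

theorem T_le_P2 : A.T ≤ A.P2 := by
  rintro _ ⟨p, rfl⟩
  rw [A.el_eq]
  exact mul_mem (mul_mem (P2_x01 _) (P2_x12 _)) (P2_x02 _)

theorem h_mem_P1 : A.h ∈ A.P1 := by
  rw [← A.h_eq 1 2 (by decide)]
  exact mul_mem (mul_mem (mul_mem (P1_x12 _) (P1_x21 _)) (P1_x12 _))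
    (mul_mem (mul_mem (P1_x12 _) (P1_x21 _)) (P1_x12 _))

theorem h_mem_P2 : A.h ∈ A.P2 := by
  rw [← A.h_eq 0 1 (by decide)]
  exact mul_mem (mul_mem (mul_mem (P2_x01 _) (P2_x10 _)) (P2_x01 _))
    (mul_mem (mul_mem (P2_x01 _) (P2_x10 _)) (P2_x01 _))

/-- an involution whose conjugation maps a subgroup into itself normalises it -/
theorem mem_normalizer_of_sq {x : L} (hx : x * x = 1) {H : Subgroup L}
    (h : ∀ l ∈ H, x * l * x⁻¹ ∈ H) : x ∈ Subgroup.normalizer (H : Set L) := by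
  have hi : x⁻¹ = x := inv_eq_of_mul_eq_one_left hx
  rw [Subgroup.mem_normalizer_iff]
  intro l
  constructor
  · exact h l
  · intro h1
    have h2 := h _ h1
    have e : x * (x * l * x⁻¹) * x⁻¹ = (x * x) * l * (x * x)⁻¹ := by group
    rw [e, hx, inv_one, one_mul, mul_one] at h2
    exact h2

theorem P1_le_normalizer : A.P1 ≤ Subgroup.normalizer (A.A1 : Set L) := by
  rw [P1, Subgroup.closure_le]
  have hin : ∀ l ∈ A.A1, l ∈ Subgroup.normalizer (A.A1 : Set L) := fun l hl =>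
    mem_normalizer_of_sq (A1_sq hl) (fun k hk => by
      rw [A1_comm hl hk, mul_inv_cancel_right]; exact hk)
  rintro _ ⟨u, rfl | rfl | rfl | rfl⟩
  · exact hin _ ⟨u, 0, (A.el_x01 u).symm⟩
  · exact hin _ (Z_le_A1 ⟨u, rfl⟩)
  · apply mem_normalizer_of_sq (A.x_sq 1 2 (by decide) u)
    rintro _ ⟨a, c, rfl⟩
    rw [← A.el_x12, A.el_inv, A.el_mul, A.el_mul, el_mem_A1]
    show u + 0 + u = 0
    revert u; decide
  · apply mem_normalizer_of_sq (A.x_sq 2 1 (by decide) u)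
    rintro _ ⟨a, c, rfl⟩
    have h1 := A.x_col 2 1 0 (by decide) (by decide) u a
    have h2 := A.x_sum 0 1 2 (by decide) (by decide) (by decide) c u
    refine ⟨a + c * u, c, ?_⟩
    rw [A.el_eq, A.el_eq, A.x_zero 1 2 (by decide), mul_one, mul_one, ← A.x_add 0 1 (by decide)]
    have h3 := A.x_row 0 2 1 (by decide) (by decide) c (c * u)
    calc A.x 2 1 u * (A.x 0 1 a * A.x 0 2 c) * (A.x 2 1 u)⁻¹
        = (A.x 2 1 u * A.x 0 1 a) * A.x 0 2 c * (A.x 2 1 u)⁻¹ := by group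
      _ = A.x 0 1 a * (A.x 2 1 u * A.x 0 2 c) * (A.x 2 1 u)⁻¹ := by rw [h1]; group
      _ = A.x 0 1 a * ((A.x 2 1 u * A.x 0 2 c * A.x 0 1 (c * u)) * (A.x 0 1 (c * u))⁻¹) *
            (A.x 2 1 u)⁻¹ := by group
      _ = A.x 0 1 a * A.x 0 2 c * (A.x 2 1 u * (A.x 0 1 (c * u))⁻¹) * (A.x 2 1 u)⁻¹ := by
        rw [← h2]; group
      _ = A.x 0 1 a * A.x 0 2 c * A.x 0 1 (c * u) := by
        rw [A.x_inv 0 1 (by decide), A.x_col 2 1 0 (by decide) (by decide) u (c * u)]; group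
      _ = A.x 0 1 a * A.x 0 1 (c * u) * A.x 0 2 c := by
        rw [mul_assoc, h3]; group

theorem P2_le_normalizer : A.P2 ≤ Subgroup.normalizer (A.A2 : Set L) := by
  rw [P2, Subgroup.closure_le]
  have hin : ∀ l ∈ A.A2, l ∈ Subgroup.normalizer (A.A2 : Set L) := fun l hl =>
    mem_normalizer_of_sq (A2_sq hl) (fun k hk => by
      rw [A2_comm hl hk, mul_inv_cancel_right]; exact hk)
  rintro _ ⟨u, rfl | rfl | rfl | rfl⟩
  · exact hin _ ⟨u, 0, (A.el_x12 u).symm⟩
  · exact hin _ (Z_le_A2 ⟨u, rfl⟩)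
  · apply mem_normalizer_of_sq (A.x_sq 0 1 (by decide) u)
    rintro _ ⟨a, c, rfl⟩
    rw [← A.el_x01, A.el_inv, A.el_mul, A.el_mul, el_mem_A2]
    show u + 0 + u = 0
    revert u; decide
  · apply mem_normalizer_of_sq (A.x_sq 1 0 (by decide) u)
    rintro _ ⟨b, c, rfl⟩
    have h1 := A.x_row 1 0 2 (by decide) (by decide) u b
    have h2 := A.x_sum 1 2 0 (by decide) (by decide) (by decide) u c
    refine ⟨b + u * c, c, ?_⟩
    rw [A.el_eq, A.el_eq, A.x_zero 0 1 (by decide), one_mul, one_mul, ← A.x_add 1 2 (by decide)]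
    have h3 := A.x_col 0 2 1 (by decide) (by decide) c (u * c)
    calc A.x 1 0 u * (A.x 1 2 b * A.x 0 2 c) * (A.x 1 0 u)⁻¹
        = (A.x 1 0 u * A.x 1 2 b) * A.x 0 2 c * (A.x 1 0 u)⁻¹ := by group
      _ = A.x 1 2 b * (A.x 1 0 u * A.x 0 2 c) * (A.x 1 0 u)⁻¹ := by rw [h1]; group
      _ = A.x 1 2 b * A.x 0 2 c * (A.x 1 0 u * A.x 1 2 (u * c)) * (A.x 1 0 u)⁻¹ := by
        rw [h2]; group
      _ = A.x 1 2 b * A.x 0 2 c * A.x 1 2 (u * c) := by
        rw [A.x_row 1 0 2 (by decide) (by decide) u (u * c)]; group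
      _ = A.x 1 2 b * A.x 1 2 (u * c) * A.x 0 2 c := by
        rw [mul_assoc, h3]; group

theorem kap_add : ∀ i j u, ∃ v, u = kap i j * v + v := by decide

/-- `[h⁻¹, x_{ij}(v)]` -/
theorem comm_h (i j : Fin 3) (hij : i ≠ j) (v : F4) :
    ⁅A.h⁻¹, A.x i j v⁆ = A.x i j (kap i j * v + v) := by
  rw [commutatorElement_def, inv_inv, A.h_x i j hij, A.x_inv i j hij, A.x_add i j hij]

theorem P1_perfect : ⁅A.P1, A.P1⁆ = A.P1 := by
  apply le_antisymm (Subgroup.commutator_le_self _)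
  have hh : A.h⁻¹ ∈ A.P1 := inv_mem h_mem_P1
  nth_rw 1 [P1]
  rw [Subgroup.closure_le]
  rintro _ ⟨u, rfl | rfl | rfl | rfl⟩
  · obtain ⟨v, hv⟩ := kap_add 0 1 u
    rw [hv, ← comm_h 0 1 (by decide)]
    exact Subgroup.commutator_mem_commutator hh (P1_x01 v)
  · obtain ⟨v, hv⟩ := kap_add 0 2 u
    rw [hv, ← comm_h 0 2 (by decide)]
    exact Subgroup.commutator_mem_commutator hh (P1_x02 v)
  · obtain ⟨v, hv⟩ := kap_add 1 2 u
    rw [hv, ← comm_h 1 2 (by decide)]
    exact Subgroup.commutator_mem_commutator hh (P1_x12 v)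
  · obtain ⟨v, hv⟩ := kap_add 2 1 u
    rw [hv, ← comm_h 2 1 (by decide)]
    exact Subgroup.commutator_mem_commutator hh (P1_x21 v)

theorem P2_perfect : ⁅A.P2, A.P2⁆ = A.P2 := by
  apply le_antisymm (Subgroup.commutator_le_self _)
  have hh : A.h⁻¹ ∈ A.P2 := inv_mem h_mem_P2
  nth_rw 1 [P2]
  rw [Subgroup.closure_le]
  rintro _ ⟨u, rfl | rfl | rfl | rfl⟩
  · obtain ⟨v, hv⟩ := kap_add 1 2 u
    rw [hv, ← comm_h 1 2 (by decide)]
    exact Subgroup.commutator_mem_commutator hh (P2_x12 v)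
  · obtain ⟨v, hv⟩ := kap_add 0 2 u
    rw [hv, ← comm_h 0 2 (by decide)]
    exact Subgroup.commutator_mem_commutator hh (P2_x02 v)
  · obtain ⟨v, hv⟩ := kap_add 0 1 u
    rw [hv, ← comm_h 0 1 (by decide)]
    exact Subgroup.commutator_mem_commutator hh (P2_x01 v)
  · obtain ⟨v, hv⟩ := kap_add 1 0 u
    rw [hv, ← comm_h 1 0 (by decide)]
    exact Subgroup.commutator_mem_commutator hh (P2_x10 v)

theorem x20_eq (u : F4) : A.x 2 0 u = ⁅A.x 2 1 u, A.x 1 0 1⁆ := by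
  have h := A.x_sum 2 0 1 (by decide) (by decide) (by decide) u 1
  rw [mul_one] at h
  have h1 := A.x_row 2 1 0 (by decide) (by decide) u u
  have h2 := A.x_col 1 0 2 (by decide) (by decide) 1 u
  rw [commutatorElement_def, A.x_inv 2 1 (by decide), A.x_inv 1 0 (by decide), h]
  symm
  calc A.x 1 0 1 * A.x 2 1 u * A.x 2 0 u * A.x 2 1 u * A.x 1 0 1
      = A.x 1 0 1 * A.x 2 1 u * (A.x 2 0 u * A.x 2 1 u) * A.x 1 0 1 := by group
    _ = A.x 1 0 1 * (A.x 2 1 u * A.x 2 1 u) * A.x 2 0 u * A.x 1 0 1 := by rw [← h1]; group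
    _ = A.x 2 0 u * (A.x 1 0 1 * A.x 1 0 1) := by
        rw [A.x_sq 2 1 (by decide), mul_one, h2]; group
    _ = A.x 2 0 u := by rw [A.x_sq 1 0 (by decide), mul_one]

theorem P1_sup_P2 : A.P1 ⊔ A.P2 = ⊤ := by
  rw [eq_top_iff, ← A.gen, Subgroup.closure_le]
  have hl := fun (x : L) (hx : x ∈ A.P1) => (le_sup_left : A.P1 ≤ A.P1 ⊔ A.P2) hx
  have hr := fun (x : L) (hx : x ∈ A.P2) => (le_sup_right : A.P2 ≤ A.P1 ⊔ A.P2) hx
  rintro _ ⟨i, j, u, hij, rfl⟩
  have h20 : A.x 2 0 u ∈ A.P1 ⊔ A.P2 := by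
    rw [x20_eq, commutatorElement_def]
    exact mul_mem (mul_mem (mul_mem (hl _ (P1_x21 _)) (hr _ (P2_x10 _)))
      (inv_mem (hl _ (P1_x21 _)))) (inv_mem (hr _ (P2_x10 _)))
  fin_cases i <;> fin_cases j
  · exact absurd rfl hij
  · exact hl _ (P1_x01 u)
  · exact hl _ (P1_x02 u)
  · exact hr _ (P2_x10 u)
  · exact absurd rfl hij
  · exact hl _ (P1_x12 u)
  · exact h20
  · exact hl _ (P1_x21 u)
  · exact absurd rfl hij

/-- A subgroup normalising... : anything containing the normalisers of `A₁` and `A₂` is everything. -/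
theorem eq_top_of_normalizers {H : Subgroup L}
    (h1 : Subgroup.normalizer (A.A1 : Set L) ≤ H) (h2 : Subgroup.normalizer (A.A2 : Set L) ≤ H) :
    H = ⊤ := by
  rw [eq_top_iff, ← P1_sup_P2 (A := A)]
  exact sup_le (P1_le_normalizer.trans h1) (P2_le_normalizer.trans h2)

/-! ### Elementary abelian subgroups -/

/-- an elementary abelian subgroup of `T` lies in `A₁` or `A₂` -/
theorem elab_T (E : Subgroup L) (hE : E ≤ A.T) (h : ∀ x ∈ E, x * x = 1) : E ≤ A.A1 ∨ E ≤ A.A2 := by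
  by_contra hcon
  push Not at hcon
  obtain ⟨h1, h2⟩ := hcon
  obtain ⟨x, hx, hx1⟩ := SetLike.not_le_iff_exists.mp h1
  obtain ⟨y, hy, hy2⟩ := SetLike.not_le_iff_exists.mp h2
  have hx2 := (T_sq (hE hx) (h x hx)).resolve_left hx1
  have hy1 := (T_sq (hE hy) (h y hy)).resolve_right hy2
  rcases T_sq (hE (mul_mem hx hy)) (h _ (mul_mem hx hy)) with h3 | h3
  · exact hx1 ((Subgroup.mul_mem_cancel_right _ hy1).mp h3)
  · exact hy2 ((Subgroup.mul_mem_cancel_left _ hx2).mp h3)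

theorem HasTy.conj_inner {α : MulAut L} {τ : Ty} (h : A.HasTy α τ) (l : L) :
    A.HasTy (MulAut.conj l * α * (MulAut.conj l)⁻¹) τ := by
  have h1 := ((A.hasTy_conj l).mul h).mul (A.hasTy_conj l).inv
  have e : (ty1.mul τ).mul ty1.inv = τ := by rw [Ty.one_mul]; exact Ty.mul_one τ
  rwa [e] at h1

/-- a 2-group of automorphisms containing an outer involutory automorphism: conjugate by an inner
automorphism into `MT`, the involution becoming pure -/
theorem exists_conj_pure (Q : Subgroup (MulAut L)) (hQ : IsPGroup 2 Q) {α : MulAut L}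
    (hα : α ∈ Q) (hα2 : α * α = 1) {τ : Ty} (hτ : τ ≠ ty1) (hty : A.HasTy α τ) :
    ∃ l, A.IsTau τ (MulAut.conj l * α * (MulAut.conj l)⁻¹) ∧
      ∀ β ∈ Q, (MulAut.conj l * β * (MulAut.conj l)⁻¹) ∈ A.MT := by
  obtain ⟨l, hl⟩ := A.exists_conj_MT Q hQ
  obtain ⟨p, τ', hcd⟩ := hl α hα
  have hτ' : τ = τ' := (hty.conj_inner l).unique hcd.hasTy
  subst hτ'
  set v' := MulAut.conj l * α * (MulAut.conj l)⁻¹ with hv'
  have h2' : v' * v' = 1 := by
    calc v' * v' = MulAut.conj l * (α * α) * (MulAut.conj l)⁻¹ := by rw [hv']; group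
      _ = 1 := by rw [hα2]; group
  have hsq := hcd.mul hcd
  rw [h2'] at hsq
  obtain ⟨h3, h4⟩ := hsq.one
  obtain ⟨a', b', c', hq⟩ := inv_outer τ p.a p.b p.c hτ h3 h4
  have hc2 := hcd.conj ⟨a', b', c'⟩
  have hq' : cmul (ctau τ ⟨a', b', c'⟩) (cmul p (cinv ⟨a', b', c'⟩)) = cone := hq
  rw [hq'] at hc2
  have hpure := hc2.cone
  have e : ∀ β : MulAut L, MulAut.conj (A.el ⟨a', b', c'⟩ * l) * β *
      (MulAut.conj (A.el ⟨a', b', c'⟩ * l))⁻¹ = MulAut.conj (A.el ⟨a', b', c'⟩) *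
        (MulAut.conj l * β * (MulAut.conj l)⁻¹) * (MulAut.conj (A.el ⟨a', b', c'⟩))⁻¹ := by
    intro β
    rw [map_mul]; group
  refine ⟨A.el ⟨a', b', c'⟩ * l, ?_, ?_⟩
  · rw [e]; exact hpure
  · intro β hβ
    rw [e]
    exact mul_mem (mul_mem (conj_mem_MT _) (hl β hβ)) (inv_mem (conj_mem_MT _))

theorem card_inner_le (E : Subgroup (MulAut L)) (hE : ∀ x ∈ E, x * x = 1) {α : MulAut L}
    (hα : α ∈ E) {τ : Ty} (hτ : τ ≠ ty1) (hty : A.HasTy α τ) :
    Nat.card {x // x ∈ E ∧ A.tyHom x = 1} ≤ (fxs τ).card := by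
  have hE2 : IsPGroup 2 E := by
    rintro ⟨x, hx⟩
    refine ⟨1, Subtype.ext ?_⟩
    show x ^ (2 ^ 1) = 1
    rw [pow_one, pow_two, hE x hx]
  obtain ⟨l, hl, hl'⟩ := exists_conj_pure E hE2 hα (hE α hα) hτ hty
  set m := MulAut.conj l with hm
  have key : ∀ x : {x // x ∈ E ∧ A.tyHom x = 1}, ∃ p : {p // p ∈ fxs τ},
      m * x.1 * m⁻¹ = MulAut.conj (A.el p.1) := by
    rintro ⟨x, hx, hx1⟩
    obtain ⟨p, hp⟩ := mem_MT_inner (hl' x hx) (by
      rw [map_mul, map_mul, hx1, mul_one, ← map_mul, mul_inv_cancel, map_one])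
    refine ⟨⟨p, ?_⟩, hp⟩
    unfold fxs
    rw [Finset.mem_filter]
    refine ⟨Finset.mem_univ _, ?_, ?_⟩
    · have h1 : α * x = x * α := by
        have h2 := hE _ (mul_mem hα hx)
        have h3 := hE _ hα
        have h4 := hE _ hx
        calc α * x = α * x * ((x * α) * (x * α)) := by rw [hE _ (mul_mem hx hα), mul_one]
          _ = α * (x * x) * α * (x * α) := by group
          _ = (α * α) * (x * α) := by rw [h4]; group
          _ = x * α := by rw [h3, one_mul]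
      have h2 := IsTau.conj hl p
      rw [← hp] at h2
      have h3 : m * α * m⁻¹ * (m * x * m⁻¹) * (m * α * m⁻¹)⁻¹ = m * x * m⁻¹ := by
        calc m * α * m⁻¹ * (m * x * m⁻¹) * (m * α * m⁻¹)⁻¹ = m * (α * x) * α⁻¹ * m⁻¹ := by group
          _ = m * x * m⁻¹ := by rw [h1]; group
      rw [h3, hp] at h2
      exact A.inj (A.conj_injective h2)
    · rw [← A.el_eq_one, ← A.el_mul]
      apply A.conj_injective
      rw [map_mul, map_one]
      show MulAut.conj (A.el p) * MulAut.conj (A.el p) = 1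
      rw [← hp]
      calc m * x * m⁻¹ * (m * x * m⁻¹) = m * (x * x) * m⁻¹ := by group
        _ = 1 := by rw [hE x hx]; group
  choose f hf using key
  have h1 : Function.Injective f := by
    intro x y hxy
    have h2 := hf x
    rw [hxy, ← hf y] at h2
    apply Subtype.ext
    exact mul_left_cancel (mul_right_cancel h2)
  have h2 := Nat.card_le_card_of_injective f h1
  rwa [Nat.card_eq_fintype_card (α := {p // p ∈ fxs τ}), Fintype.card_coe] at h2

/-- **(F5)** An elementary abelian 2-group of automorphisms that is not inner has order at most 8. -/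
theorem card_le_eight (E : Subgroup (MulAut L)) (hE : ∀ x ∈ E, x * x = 1)
    (hne : ∃ x ∈ E, A.tyHom x ≠ 1) : Nat.card E ≤ 8 := by
  have := A.finite_aut
  obtain ⟨α, hα, hα1⟩ := hne
  have hE2 : IsPGroup 2 E := by
    rintro ⟨x, hx⟩
    refine ⟨1, Subtype.ext ?_⟩
    show x ^ (2 ^ 1) = 1
    rw [pow_one, pow_two, hE x hx]
  have : Fact (Nat.Prime 2) := ⟨Nat.prime_two⟩
  set φ : E →* Multiplicative (ZMod 2) × Multiplicative (ZMod 2) :=
    bitsHom.comp (A.tyHom.comp E.subtype) with hφ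
  have hsq : ∀ x ∈ E, A.tyHom x * A.tyHom x = 1 := fun x hx => by
    rw [← map_mul, hE x hx, map_one]
  have hkmem : ∀ x : E, x ∈ φ.ker ↔ A.tyHom x = 1 := by
    intro x
    rw [MonoidHom.mem_ker]
    constructor
    · intro h
      exact bitsHom_inj _ h (hsq x x.2)
    · intro h
      show bitsHom (A.tyHom x) = 1
      rw [h, map_one]
  have hk : Nat.card φ.ker = Nat.card {x // x ∈ E ∧ A.tyHom x = 1} := by
    apply Nat.card_congr
    exact
      { toFun := fun x => ⟨x.1.1, x.1.2, (hkmem x.1).mp x.2⟩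
        invFun := fun x => ⟨⟨x.1, x.2.1⟩, (hkmem _).mpr x.2.2⟩
        left_inv := fun _ => rfl
        right_inv := fun _ => rfl }
  have hkp : ∃ n, Nat.card φ.ker = 2 ^ n := by
    have h1 : IsPGroup 2 φ.ker := hE2.to_subgroup φ.ker
    exact IsPGroup.iff_card.mp h1
  have hcard : Nat.card E = Nat.card φ.ker * Nat.card φ.range := by
    rw [← Subgroup.card_mul_index φ.ker, Subgroup.index_ker]
  have hM : Nat.card (Multiplicative (ZMod 2) × Multiplicative (ZMod 2)) = 4 := by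
    rw [Nat.card_eq_fintype_card]; rfl
  have hr : Nat.card φ.range ∣ 4 := by
    rw [← hM]; exact Subgroup.card_subgroup_dvd_card _
  have hle : ∀ β ∈ E, ∀ τ, τ ≠ ty1 → A.HasTy β τ → Nat.card φ.ker ≤ (fxs τ).card := by
    intro β hβ τ hτ h
    rw [hk]
    exact card_inner_le E hE hβ hτ h
  have hτsq : ∀ β ∈ E, ∀ τ, A.HasTy β τ → τ.mul τ = ty1 := by
    intro β hβ τ h
    have h1 := h.mul h
    rw [hE β hβ] at h1
    exact h1.unique A.hasTy_one
  obtain ⟨τ, hτ⟩ := A.hasTy α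
  have hτ1 : τ ≠ ty1 := by
    rintro rfl
    exact hα1 hτ.tyHom
  have h6 : Nat.card φ.ker ≤ 6 := (hle α hα τ hτ1 hτ).trans (card_fxs τ hτ1 (hτsq α hα τ hτ))
  have h4 : Nat.card φ.ker ≤ 4 := by
    obtain ⟨n, hn⟩ := hkp
    rw [hn] at h6 ⊢
    have : n < 3 := by
      by_contra h
      push Not at h
      have := Nat.pow_le_pow_right (show 0 < 2 by norm_num) h
      omega
    interval_cases n <;> norm_num
  by_cases h3 : ∃ β ∈ E, bitsHom (A.tyHom β) = (bz true, bz true)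
  · obtain ⟨β, hβ, hβ1⟩ := h3
    obtain ⟨ρ, hρ⟩ := A.hasTy β
    rw [hρ.tyHom] at hβ1
    obtain ⟨e1, e2⟩ := bitsHom_three _ hβ1
    have hρ1 : ρ ≠ ty1 := by
      rintro rfl
      exact absurd e1 (by decide)
    have h5 : Nat.card φ.ker ≤ 2 :=
      (hle β hβ ρ hρ1 hρ).trans (card_fxs' ρ e1 e2 (hτsq β hβ ρ hρ))
    have h7 : Nat.card φ.range ≤ 4 := Nat.le_of_dvd (by norm_num) hr
    rw [hcard]
    calc Nat.card φ.ker * Nat.card φ.range ≤ 2 * 4 := Nat.mul_le_mul h5 h7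
      _ = 8 := rfl
  · push Not at h3
    have h7 : Nat.card φ.range ≠ 4 := by
      intro h
      rw [← hM] at h
      have h8 := Subgroup.eq_top_of_card_eq _ h
      have h9 : ((bz true, bz true) : Multiplicative (ZMod 2) × Multiplicative (ZMod 2)) ∈
        φ.range := by rw [h8]; trivial
      obtain ⟨β, hβ⟩ := h9
      exact h3 β β.2 hβ
    have h8 : Nat.card φ.range ≤ 2 := by
      have h9 : Nat.card φ.range ≤ 4 := Nat.le_of_dvd (by norm_num) hr
      interval_cases h10 : Nat.card φ.range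
      · omega
      · omega
      · omega
      · omega
      · omega
    rw [hcard]
    calc Nat.card φ.ker * Nat.card φ.range ≤ 4 * 2 := Nat.mul_le_mul h4 h8
      _ = 8 := rfl

end Dat

end Cfsg.Agent.LThreeFour
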