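import Cfsg.Agent.LThreeFour.Outer

/-!
# 2-automorphisms normalising the Sylow 2-subgroup
-/

set_option autoImplicit false
set_option linter.constructorNameAsVariable false
set_option linter.unusedVariables false

namespace Cfsg.Agent.LThreeFour

open Cfsg.Agent.SporadicA.FieldFour
open Cfsg.Agent.ONType.Psl (kap)
open scoped commutatorElement

/-- the codes fixed modulo the centre by a pure type -/
def fxm (τ : Ty) : Finset Code :=
  Finset.univ.filter (fun y => (ctau τ y).a = y.a ∧ (ctau τ y).b = y.b)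

set_option maxRecDepth 100000 in
theorem card_fxm : ∀ τ : Ty, τ ≠ ty1 → τ.mul τ = ty1 → (fxm τ).card ≤ 16 := by
  decide +kernel

/-- elements of the type group of 2-power order are involutions -/
theorem TyG.sq_of_pow {g : TyG} {n : ℕ} (h : g ^ (2 ^ n) = 1) : g * g = 1 := by
  have h1 : ∀ g : TyG, (g * g) * (g * g) * (g * g) = 1 ∨ g * g = 1 := by decide +kernel
  have h0 : ∀ g : TyG, (g * g) * (g * g) * (g * g) = 1 := by decide +kernel
  have h2 : (g * g) ^ 3 = 1 := by rw [pow_three']; exact h0 g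
  have h3 : (g * g) ^ (2 ^ n) = 1 := by rw [← pow_two, ← pow_mul, mul_comm, pow_mul, h, one_pow]
  have h5 : orderOf (g * g) ∣ 3 := orderOf_dvd_of_pow_eq_one h2
  have h6 : orderOf (g * g) ∣ 2 ^ n := orderOf_dvd_of_pow_eq_one h3
  exact orderOf_eq_one_iff.mp
    (Nat.eq_one_of_dvd_coprimes (Nat.Coprime.pow_right n (by norm_num)) h5 h6)

theorem fr_w : ∀ e : Bool, fr e F4.w = F4.w → e = false := by decide

theorem ty_prod : ∀ g k : TyG, g.ty.1 = false → k.ty.1 = false → g * g = 1 → k * k = 1 → g ≠ 1 →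
    k ≠ 1 → (g * k) * (g * k) = 1 → g * k = 1 := by decide +kernel

namespace Dat

variable {L : Type*} [Group L] {A : Dat L}

theorem tyHom_sq {α : MulAut L} {n : ℕ} (h : α ^ (2 ^ n) = 1) : A.tyHom α * A.tyHom α = 1 :=
  TyG.sq_of_pow (n := n) (by rw [← map_pow, h, map_one])

/-- **(O2)** -/
theorem inner_mul_of_outer (A : Dat L) {Q : Subgroup (MulAut L)} (hQ : IsPGroup 2 Q) {α β : MulAut L}
    (hα : α ∈ Q) (hβ : β ∈ Q) (hαZ : ∀ z ∈ A.Z, α z = z) (hβZ : ∀ z ∈ A.Z, β z = z)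
    (hoα : A.tyHom α ≠ 1) (hoβ : A.tyHom β ≠ 1) : A.tyHom (α * β) = 1 := by
  have key : ∀ γ : MulAut L, (∀ z ∈ A.Z, γ z = z) → (A.tyHom γ).ty.1 = false := by
    intro γ hγ
    obtain ⟨p, τ, hp⟩ := A.exists_cd (hγ _ ⟨1, rfl⟩)
    rw [hp.hasTy.tyHom]
    apply fr_w
    have h1 := hp.apply ⟨0, 0, F4.w⟩
    rw [A.el_x02, hγ _ ⟨_, rfl⟩, cact_c τ p.a p.b p.c, ← A.el_x02] at h1
    exact (congrArg Code.c (A.inj h1)).symm
  have hsq : ∀ γ ∈ Q, A.tyHom γ * A.tyHom γ = 1 := by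
    intro γ hγ
    obtain ⟨n, hn⟩ := hQ ⟨γ, hγ⟩
    exact tyHom_sq (n := n) (congrArg Subtype.val hn)
  rw [map_mul]
  refine ty_prod _ _ (key α hαZ) (key β hβZ) (hsq α hα) (hsq β hβ) hoα hoβ ?_
  rw [← map_mul]
  exact hsq _ (mul_mem hα hβ)

/-- a 2-automorphism normalising `Z` fixes a nontrivial element of `Z` -/
theorem exists_fix_Z {α : MulAut L} {n : ℕ} (h2 : α ^ (2 ^ n) = 1) (hZ : ∀ z ∈ A.Z, α z ∈ A.Z) :
    ∃ c, c ≠ 0 ∧ α (A.x 0 2 c) = A.x 0 2 c := by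
  by_contra hcon
  push Not at hcon
  have hg : ∀ c, ∃ d, α (A.x 0 2 c) = A.x 0 2 d := fun c => hZ _ ⟨c, rfl⟩
  choose g hg using hg
  have hinj : ∀ c d, A.x 0 2 c = A.x 0 2 d → c = d := by
    intro c d h
    rw [← A.el_x02, ← A.el_x02] at h
    exact congrArg Code.c (A.inj h)
  have hne : ∀ c, c ≠ 0 → g c ≠ c := fun c hc h => hcon c hc (by rw [hg, h])
  have hne0 : ∀ c, c ≠ 0 → g c ≠ 0 := by
    intro c hc h
    have h1 := hg c
    rw [h, A.x_zero 0 2 (by decide), MulEquiv.map_eq_one_iff] at h1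
    exact hc (hinj c 0 (by rw [h1, A.x_zero 0 2 (by decide)]))
  have hgi : ∀ c d, g c = g d → c = d := by
    intro c d h
    apply hinj
    apply α.injective
    rw [hg, hg, h]
  have h3 : g (g (g 1)) = 1 := by
    have aux : ∀ x y u : F4, x ≠ 0 → x ≠ 1 → y ≠ 0 → y ≠ x → u ≠ 0 → u ≠ y → u ≠ x → y ≠ 1 →
      u = 1 := by decide
    have aux2 : ∀ x y u : F4, x ≠ 0 → x ≠ 1 → y ≠ 0 → y ≠ x → y = 1 → u ≠ 0 → u ≠ y → u = x →
      False ∨ (x = u ∧ y = 1) := fun x y u _ _ _ _ h _ _ h' => Or.inr ⟨h'.symm, h⟩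
    have g1 := hne0 1 (by decide)
    have g2 := hne 1 (by decide)
    have g3 := hne0 _ g1
    have g4 := hne _ g1
    have g5 := hne0 _ g3
    have g6 := hne _ g3
    -- the third nonzero element
    have hy : g (g 1) ≠ 1 := by
      intro hy
      -- then `1 + g 1` is fixed
      have hs : g (1 + g 1) = 1 + g 1 := by
        apply hinj
        have e1 := congrArg α (A.x_add 0 2 (by decide) 1 (g 1))
        rw [map_mul, hg, hg, hy, hg, A.x_add 0 2 (by decide), add_comm] at e1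
        exact e1.symm
      have h0 : (1 : F4) + g 1 ≠ 0 := by
        intro h0
        have : ∀ u : F4, 1 + u = 0 → u = 1 := by decide
        exact g2 (this _ h0)
      exact hne _ h0 hs
    have hx : g (g (g 1)) ≠ g 1 := by
      intro hx
      exact hy (hgi _ _ hx)
    exact aux _ _ _ g1 g2 g3 g4 g5 g6 hx hy
  have h4 : (α ^ 3) (A.x 0 2 1) = A.x 0 2 1 := by
    rw [pow_three, MulAut.mul_apply, MulAut.mul_apply, hg, hg, hg, h3]
  have h5 : α ^ 3 ∈ A.MT := mem_MT_iff.mpr h4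
  have h6 : Nat.Coprime 3 (orderOf α) :=
    Nat.Coprime.coprime_dvd_right (orderOf_dvd_of_pow_eq_one h2)
      (Nat.Coprime.pow_right n (by norm_num))
  obtain ⟨m, hm⟩ := exists_pow_eq_self_of_coprime h6
  have h7 : α ∈ A.MT := by
    rw [← hm]; exact pow_mem h5 m
  exact hcon 1 (by decide) (mem_MT_iff.mp h7)

theorem Z_eq_center {α : MulAut L} (hT : ∀ s ∈ A.T, α s ∈ A.T) (hT' : ∀ s ∈ A.T, α⁻¹ s ∈ A.T) :
    ∀ z ∈ A.Z, α z ∈ A.Z := by
  intro z hz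
  have h1 : ∀ s ∈ A.T, α z * s = s * α z := by
    intro s hs
    have h2 := Z_comm hz (hT' s hs)
    have h3 := congrArg α h2
    rw [map_mul, map_mul, MulAut.apply_inv_self] at h3
    exact h3
  obtain ⟨p, hp⟩ := hT z (Z_le_T hz)
  rw [← hp] at h1 ⊢
  rw [el_mem_Z]
  have key : ∀ q : Code, p.a * q.b + p.b * q.a = 0 := by
    intro q
    have h4 := commutatorElement_eq_one_iff_mul_comm.mpr (h1 _ (A.el_mem q))
    rw [A.el_comm, ← A.el_x02, A.el_eq_one] at h4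
    exact congrArg Code.c h4
  have k1 := key ⟨0, 1, 0⟩
  have k2 := key ⟨1, 0, 0⟩
  simp only [mul_one, mul_zero, add_zero, zero_add] at k1 k2
  exact ⟨k1, k2⟩

theorem h_conj_mem (k : ℕ) {l : L} : (A.h ^ k)⁻¹ * l * A.h ^ k ∈ A.T ↔ l ∈ A.T := by
  induction k generalizing l with
  | zero => simp
  | succ k ih =>
    have e : (A.h ^ (k + 1))⁻¹ * l * A.h ^ (k + 1) = A.h⁻¹ * ((A.h ^ k)⁻¹ * l * A.h ^ k) * A.h := by
      rw [pow_succ]; group
    rw [e, h_normalizes, ih]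

theorem h_conj_Z (k : ℕ) {l : L} (hl : l ∈ A.Z) : (A.h ^ k)⁻¹ * l * A.h ^ k ∈ A.Z := by
  induction k with
  | zero => simpa using hl
  | succ k ih =>
    obtain ⟨c, hc⟩ := ih
    have : (A.h ^ (k + 1))⁻¹ * l * A.h ^ (k + 1) = A.h⁻¹ * ((A.h ^ k)⁻¹ * l * A.h ^ k) * A.h := by
      rw [pow_succ]; group
    rw [this, hc, A.h_x 0 2 (by decide)]
    exact ⟨_, rfl⟩

theorem exists_h_conj (A : Dat L) {c : F4} (hc : c ≠ 0) :
    ∃ k : ℕ, (A.h ^ k)⁻¹ * A.x 0 2 c * A.h ^ k = A.x 0 2 1 := by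
  have h1 : ∀ c, A.h⁻¹ * A.x 0 2 c * A.h = A.x 0 2 (kap 0 2 * c) := A.h_x 0 2 (by decide)
  cases c
  · exact absurd rfl hc
  · exact ⟨0, by rw [pow_zero, inv_one, one_mul, mul_one]; rfl⟩
  · exact ⟨1, by rw [pow_one, h1]; rfl⟩
  · refine ⟨2, ?_⟩
    have : (A.h ^ 2)⁻¹ * A.x 0 2 F4.v * A.h ^ 2 = A.h⁻¹ * (A.h⁻¹ * A.x 0 2 F4.v * A.h) * A.h := by
      rw [pow_two]; group
    rw [this, h1, h1]
    rfl

/-- **(O1)** -/
theorem card_le_of_outer (A : Dat L) {α : MulAut L} {n : ℕ} (h2 : α ^ (2 ^ n) = 1)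
    (hT : ∀ s ∈ A.T, α s ∈ A.T) (ho : A.tyHom α ≠ 1) (F : Subgroup L) (hF : F ≤ A.T)
    (h : ∀ x ∈ F, x⁻¹ * α x ∈ A.Z) : Nat.card F ≤ 16 := by
  have hfinL := A.finite
  -- `α⁻¹` normalises `T`
  have hinv : α⁻¹ = α ^ (2 ^ n - 1) := by
    rw [inv_eq_iff_mul_eq_one, ← pow_succ', Nat.sub_add_cancel Nat.one_le_two_pow, h2]
  have hTk : ∀ k : ℕ, ∀ s ∈ A.T, (α ^ k) s ∈ A.T := by
    intro k
    induction k with
    | zero => intro s hs; exact hs
    | succ k ih =>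
      intro s hs
      rw [pow_succ, MulAut.mul_apply]
      exact ih _ (hT s hs)
  have hT' : ∀ s ∈ A.T, α⁻¹ s ∈ A.T := by
    rw [hinv]; exact hTk _
  obtain ⟨c, hc, hcα⟩ := exists_fix_Z h2 (Z_eq_center hT hT')
  obtain ⟨k, hk⟩ := A.exists_h_conj hc
  set g := A.h ^ k with hg
  set β := MulAut.conj g⁻¹ * α * (MulAut.conj g⁻¹)⁻¹ with hβ
  have hβα : ∀ y, β (g⁻¹ * y * g) = g⁻¹ * α y * g := by
    intro y
    rw [hβ, ← map_inv, MulAut.mul_apply, MulAut.mul_apply, MulAut.conj_apply, MulAut.conj_apply]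
    have : g⁻¹⁻¹ * (g⁻¹ * y * g) * g⁻¹⁻¹⁻¹ = y := by group
    rw [this, inv_inv]
  have hβ1 : β (A.x 0 2 1) = A.x 0 2 1 := by
    rw [← hk, hβα, hcα]
  obtain ⟨p, τ, hp⟩ := A.exists_cd hβ1
  have hτ : A.tyHom β = ⟨τ⟩ := hp.hasTy.tyHom
  have hαβ : A.tyHom β = A.tyHom α := by
    rw [hβ, map_mul, map_mul, map_inv (A.tyHom), A.tyHom_conj, inv_one, mul_one, one_mul]
  have hτ1 : τ ≠ ty1 := by
    rintro rfl
    apply ho
    rw [← hαβ, hτ]; rfl
  have hτ2 : τ.mul τ = ty1 := by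
    have h3 := tyHom_sq (A := A) (n := n) h2
    rw [← hαβ, hτ] at h3
    exact congrArg TyG.ty h3
  have key : ∀ x : F, ∃ y : {y // y ∈ fxm τ}, g⁻¹ * (x : L) * g = A.el y.1 := by
    rintro ⟨x, hx⟩
    obtain ⟨y, hy⟩ := (h_conj_mem (A := A) k).mpr (hF hx)
    refine ⟨⟨y, ?_⟩, hy.symm⟩
    have h3 : (g⁻¹ * x * g)⁻¹ * β (g⁻¹ * x * g) ∈ A.Z := by
      rw [hβα]
      have := h_conj_Z (A := A) k (h x hx)
      have e : (g⁻¹ * x * g)⁻¹ * (g⁻¹ * α x * g) = g⁻¹ * (x⁻¹ * α x) * g := by group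
      rw [e]; exact this
    have hy' : A.el y = g⁻¹ * x * g := hy
    rw [← hy', hp.apply, A.el_inv, A.el_mul, el_mem_Z] at h3
    obtain ⟨h4, h5⟩ := h3
    have h6 := cact_ab p τ y
    have h7 : ∀ u v : F4, u + v = 0 → v = u := by decide
    unfold fxm
    rw [Finset.mem_filter]
    refine ⟨Finset.mem_univ _, ?_, ?_⟩
    · rw [← h6.1]; exact h7 _ _ h4
    · rw [← h6.2]; exact h7 _ _ h5
  choose f hf using key
  have h8 : Function.Injective f := by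
    intro x y hxy
    have h9 := hf x
    rw [hxy, ← hf y] at h9
    exact Subtype.ext (mul_left_cancel (mul_right_cancel h9))
  have h9 := Nat.card_le_card_of_injective f h8
  rw [Nat.card_eq_fintype_card (α := {p // p ∈ fxm τ}), Fintype.card_coe] at h9
  exact h9.trans (card_fxm τ hτ1 hτ2)

end Dat

end Cfsg.Agent.LThreeFour
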