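import Cfsg.Agent.LThreeFour.Inv

/-!
# The outer type as a homomorphism; the stabiliser of `x₀₂(1)`
-/

set_option autoImplicit false
set_option linter.constructorNameAsVariable false
set_option linter.unusedVariables false

namespace Cfsg.Agent.LThreeFour

open Cfsg.Agent.SporadicA.FieldFour
open Cfsg.Agent.ONType.Psl (kap)
open Cfsg.Agent.ONType.OuterL (rv rv_ne rv_rv)

/-- the group of outer types (dihedral of order 12) -/
@[ext] structure TyG : Type where
  ty : Ty
  deriving DecidableEq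

namespace TyG

theorem forall_tyG {P : TyG → Prop} : (∀ g, P g) ↔ ∀ τ, P ⟨τ⟩ := ⟨fun h τ => h _, fun h g => h g.ty⟩

instance {P : TyG → Prop} [DecidablePred P] : Decidable (∀ g, P g) :=
  decidable_of_iff _ forall_tyG.symm

instance : Group TyG where
  mul a b := ⟨a.ty.mul b.ty⟩
  one := ⟨ty1⟩
  inv a := ⟨a.ty.inv⟩
  mul_assoc a b c := TyG.ext (Ty.mul_assoc _ _ _)
  one_mul a := TyG.ext (Ty.one_mul _)
  mul_one a := TyG.ext (Ty.mul_one _)
  inv_mul_cancel a := TyG.ext (Ty.inv_mul _)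

instance : Fintype TyG :=
  Fintype.ofEquiv Ty
    { toFun := fun t => ⟨t⟩
      invFun := fun p => p.ty
      left_inv := fun _ => rfl
      right_inv := fun _ => rfl }

theorem mul_ty (a b : TyG) : (a * b).ty = a.ty.mul b.ty := rfl

theorem one_ty : (1 : TyG).ty = ty1 := rfl

theorem inv_ty (a : TyG) : (a⁻¹).ty = a.ty.inv := rfl

theorem card_tyG : Nat.card TyG = 12 := by
  rw [Nat.card_eq_fintype_card]; decide +kernel

end TyG

namespace Dat

variable {L : Type*} [Group L] {A : Dat L}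

variable (A) in
/-- the outer type homomorphism -/
noncomputable def tyHom : MulAut L →* TyG where
  toFun α := ⟨(A.hasTy α).choose⟩
  map_one' := TyG.ext ((A.hasTy 1).choose_spec.unique A.hasTy_one)
  map_mul' α β := TyG.ext ((A.hasTy (α * β)).choose_spec.unique
    ((A.hasTy α).choose_spec.mul (A.hasTy β).choose_spec))

theorem hasTy_tyHom (α : MulAut L) : A.HasTy α (A.tyHom α).ty := (A.hasTy α).choose_spec

theorem HasTy.tyHom {α : MulAut L} {τ : Ty} (h : A.HasTy α τ) : A.tyHom α = ⟨τ⟩ :=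
  TyG.ext ((A.hasTy_tyHom α).unique h)

theorem tyHom_eq_iff {α : MulAut L} {τ : Ty} : A.tyHom α = ⟨τ⟩ ↔ A.HasTy α τ :=
  ⟨fun h => by
    have := A.hasTy_tyHom α
    rwa [h] at this, fun h => h.tyHom⟩

theorem ker_tyHom : A.tyHom.ker = (MulAut.conj : L →* MulAut L).range := by
  ext α
  rw [MonoidHom.mem_ker, MonoidHom.mem_range]
  constructor
  · intro h
    obtain ⟨l, hl⟩ := HasTy.inner (A.tyHom_eq_iff.mp h)
    exact ⟨l, hl.symm⟩
  · rintro ⟨l, rfl⟩
    exact (A.hasTy_conj l).tyHom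

theorem tyHom_conj (l : L) : A.tyHom (MulAut.conj l) = 1 := (A.hasTy_conj l).tyHom

theorem inner_iff {α : MulAut L} : A.tyHom α = 1 ↔ ∃ l, α = MulAut.conj l := by
  rw [← MonoidHom.mem_ker, ker_tyHom, MonoidHom.mem_range]
  exact ⟨fun ⟨l, h⟩ => ⟨l, h.symm⟩, fun ⟨l, h⟩ => ⟨l, h.symm⟩⟩

/-- the restriction of the outer type to the stabiliser of `x₀₂(1)` has kernel `T` -/
theorem mem_MT_inner {α : MulAut L} (h : α ∈ A.MT) (h1 : A.tyHom α = 1) :
    ∃ p, α = MulAut.conj (A.el p) := by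
  obtain ⟨p, τ, hp⟩ := h
  have h2 := hp.hasTy.tyHom
  rw [h1] at h2
  have h3 : τ = ty1 := (congrArg TyG.ty h2).symm
  subst h3
  exact ⟨_, hp.eq_conj⟩

theorem card_ker_MT : Nat.card (A.tyHom.comp A.MT.subtype).ker = 64 := by
  rw [← card_code]
  symm
  apply Nat.card_congr
  refine Equiv.ofBijective (fun p => ⟨⟨MulAut.conj (A.el p), conj_mem_MT p⟩, ?_⟩) ⟨?_, ?_⟩
  · rw [MonoidHom.mem_ker]
    exact tyHom_conj _
  · intro p q h
    have h1 : MulAut.conj (A.el p) = MulAut.conj (A.el q) :=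
      congrArg (fun t => ((t : (A.tyHom.comp A.MT.subtype).ker) : A.MT).1) h
    exact A.inj (A.conj_injective h1)
  · rintro ⟨⟨α, hα⟩, h⟩
    obtain ⟨p, rfl⟩ := mem_MT_inner hα (MonoidHom.mem_ker.mp h)
    exact ⟨p, rfl⟩

/-- the stabiliser of `x₀₂(1)` has order dividing `768 = 2⁸ · 3` -/
theorem card_MT_dvd : Nat.card A.MT ∣ 768 := by
  have h1 := Subgroup.card_mul_index (A.tyHom.comp A.MT.subtype).ker
  rw [card_ker_MT, Subgroup.index_ker] at h1
  have h2 : Nat.card (A.tyHom.comp A.MT.subtype).range ∣ 12 := by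
    rw [← TyG.card_tyG]; exact Subgroup.card_subgroup_dvd_card _
  rw [← h1]
  exact mul_dvd_mul_left 64 h2

end Dat

end Cfsg.Agent.LThreeFour
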