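import Cfsg.Agent.LThreeFour.Solv

/-!
# Outer involutory automorphisms of `L3(4)`
-/

set_option autoImplicit false
set_option linter.constructorNameAsVariable false
set_option linter.unusedVariables false

namespace Cfsg.Agent.LThreeFour

open Cfsg.Agent.SporadicA.FieldFour
open Cfsg.Agent.ONType.Psl (kap)
open scoped commutatorElement

set_option synthInstance.maxHeartbeats 400000 in
set_option synthInstance.maxSize 1024 in
set_option maxRecDepth 100000 in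
theorem fix_pair_list : ∀ τ : Ty, τ.1 = true → τ.mul τ = ty1 →
    ∃ p ∈ ([⟨1, 0, 0⟩, ⟨F4.w, 0, 0⟩, ⟨F4.v, 0, 0⟩, ⟨1, 1, F4.w⟩] : List Code),
    ∃ q ∈ ([⟨0, 1, 0⟩, ⟨0, F4.w, 0⟩, ⟨0, F4.v, 0⟩, ⟨F4.w, F4.v, F4.w⟩] : List Code),
      ctau τ p = p ∧ ctau τ q = q ∧ p.a * q.b + p.b * q.a = 1 := by
  decide +kernel

set_option maxRecDepth 100000 in
theorem graph_code : ∀ τ : Ty, τ.1 = false → τ ≠ ty1 → τ.mul τ = ty1 →
    ∃ a : F4, ctau τ ⟨a, a * a, 0⟩ = ⟨a, a * a, 1⟩ ∧ a * (a * a) = 1 := by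
  decide +kernel

namespace Dat

variable {L : Type*} [Group L] {A : Dat L}

theorem IsTau.h {τ : Ty} {β : MulAut L} (h : A.IsTau τ β) (hτ : τ.1 = false) : β A.h = A.h := by
  have e : ∀ u, fr τ.1 u = u := by intro u; rw [hτ]; rfl
  have h1 : ∀ u, β (A.x 0 2 u) = A.x 0 2 u := fun u => by rw [h.x02, e]
  have h2 : ∀ u, β (A.x 2 0 u) = A.x 2 0 u := fun u => by rw [h.x20, e]
  rw [← A.h_eq 0 2 (by decide)]
  simp only [map_mul, h1, h2]

/-- pure outer involutions -/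
theorem outer_pure {τ : Ty} {β : MulAut L} (h : A.IsTau τ β) (hτ : τ ≠ ty1)
    (hτ2 : τ.mul τ = ty1) : ∃ l c₁ c₂ : L, l * A.x 0 2 1 = A.x 0 2 1 * l ∧ β l = l * A.x 0 2 1 ∧
      β c₁ = c₁ ∧ β c₂ = c₂ ∧ A.x 0 2 1 = ⁅c₁, c₂⁆ := by
  rcases hb : τ.1 with _ | _
  · obtain ⟨a, h1, h2⟩ := graph_code τ hb hτ hτ2
    obtain ⟨v, hv⟩ := kap_add 0 2 1
    refine ⟨A.el ⟨a, a * a, 0⟩, A.h⁻¹, A.x 0 2 v, ?_, ?_, ?_, ?_, ?_⟩
    · exact cent_x02.mpr (A.el_mem _)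
    · rw [h.el, h1, ← A.el_x02, A.el_mul]
      congr 1
      unfold cmul
      simp
    · rw [map_inv, h.h hb]
    · rw [h.x02, hb]; rfl
    · rw [comm_h 0 2 (by decide), ← hv]
  · obtain ⟨p, -, q, -, hp, hq, hpq⟩ := fix_pair_list τ hb hτ2
    refine ⟨A.x 0 2 F4.w, A.el p, A.el q, ?_, ?_, ?_, ?_, ?_⟩
    · rw [A.x_add 0 2 (by decide), A.x_add 0 2 (by decide), add_comm]
    · rw [h.x02, A.x_add 0 2 (by decide), hb]; rfl
    · rw [h.el, hp]
    · rw [h.el, hq]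
    · rw [A.el_comm, hpq]

/-- **(F6)** outer involutory automorphisms -/
theorem outer_inv (A : Dat L) {α : MulAut L} (h2 : α * α = 1) (h : A.tyHom α ≠ 1) :
    ∃ l z c₁ c₂ : L, z ≠ 1 ∧ z * z = 1 ∧ α z = z ∧ l * z = z * l ∧ α l = l * z ∧
      α c₁ = c₁ ∧ α c₂ = c₂ ∧ z = ⁅c₁, c₂⁆ := by
  have h1 : α ≠ 1 := by
    rintro rfl; exact h (map_one _)
  obtain ⟨m, hm⟩ := A.inv_class α h1 h2
  set β := MulAut.conj m * α * (MulAut.conj m)⁻¹ with hβ
  have hβα : ∀ y, α y = m⁻¹ * β (m * y * m⁻¹) * m := by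
    intro y
    have : β (m * y * m⁻¹) = m * α y * m⁻¹ := by
      rw [hβ, ← map_inv, MulAut.mul_apply, MulAut.mul_apply, MulAut.conj_apply, MulAut.conj_apply]
      congr 3
      group
    rw [this]; group
  rcases hm with ⟨τ, hτ, ht⟩ | hm
  · have hτ2 : τ.mul τ = ty1 := by
      have h3 := ht.hasTy.mul ht.hasTy
      have h4 : β * β = 1 := by
        calc β * β = MulAut.conj m * (α * α) * (MulAut.conj m)⁻¹ := by rw [hβ]; group
          _ = 1 := by rw [h2]; group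
      rw [h4] at h3
      exact h3.unique A.hasTy_one
    obtain ⟨l, c₁, c₂, g1, g2, g3, g4, g5⟩ := outer_pure ht hτ hτ2
    have gz : β (A.x 0 2 1) = A.x 0 2 1 := by
      rw [ht.x02]
      have e1 : ∀ e, fr e (1 : F4) = 1 := by decide
      rw [e1]
    have tr : ∀ y, α (m⁻¹ * y * m) = m⁻¹ * β y * m := by
      intro y
      rw [hβα]
      have : m * (m⁻¹ * y * m) * m⁻¹ = y := by group
      rw [this]
    refine ⟨m⁻¹ * l * m, m⁻¹ * A.x 0 2 1 * m, m⁻¹ * c₁ * m, m⁻¹ * c₂ * m, ?_, ?_, ?_, ?_, ?_, ?_,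
      ?_, ?_⟩
    · intro h3
      have h4 : A.x 0 2 1 = m * (m⁻¹ * A.x 0 2 1 * m) * m⁻¹ := by group
      rw [h3, mul_one, mul_inv_cancel, ← A.el_x02, A.el_eq_one] at h4
      exact absurd h4 (by decide)
    · calc m⁻¹ * A.x 0 2 1 * m * (m⁻¹ * A.x 0 2 1 * m) = m⁻¹ * (A.x 0 2 1 * A.x 0 2 1) * m := by
            group
        _ = 1 := by rw [A.x_sq 0 2 (by decide)]; group
    · rw [tr, gz]
    · calc m⁻¹ * l * m * (m⁻¹ * A.x 0 2 1 * m) = m⁻¹ * (l * A.x 0 2 1) * m := by group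
        _ = m⁻¹ * (A.x 0 2 1 * l) * m := by rw [g1]
        _ = _ := by group
    · rw [tr, g2]; group
    · rw [tr, g3]
    · rw [tr, g4]
    · rw [g5, commutatorElement_def, commutatorElement_def]; group
  · exfalso
    apply h
    rw [A.inner_iff]
    refine ⟨m⁻¹ * A.x 0 2 1 * m, ?_⟩
    rw [map_mul, map_mul, map_inv, ← hm, hβ]
    group

end Dat

end Cfsg.Agent.LThreeFour
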