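import Cfsg.Agent.LThreeFour.Out

/-!
# Subgroups of the Sylow 2-subgroup of `L3(4)`, the two parabolic subgroups, centralisers in `Aut`
-/

set_option autoImplicit false
set_option linter.constructorNameAsVariable false
set_option linter.unusedVariables false

namespace Cfsg.Agent.LThreeFour

open Cfsg.Agent.SporadicA.FieldFour
open Cfsg.Agent.ONType.Psl (kap)
open Cfsg.Agent.ONType.OuterL (rv rv_ne rv_rv)
open scoped commutatorElement

/-- commutator of codes -/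
def ccomm (p q : Code) : Code := cmul (cmul p q) (cmul (cinv p) (cinv q))

theorem ccomm_eq : ∀ p q : Code, ccomm p q = ⟨0, 0, p.a * q.b + p.b * q.a⟩ := by
  intro p q
  obtain ⟨a, b, c⟩ := p
  obtain ⟨a', b', c'⟩ := q
  have h2 : ∀ u : F4, u + u = 0 := by decide
  simp only [ccomm, cmul, cinv, Code.mk.injEq]
  refine ⟨?_, ?_, ?_⟩
  · calc a + a' + (a + a') = (a + a') + (a + a') := rfl
      _ = 0 := h2 _
  · calc b + b' + (b + b') = (b + b') + (b + b') := rfl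
      _ = 0 := h2 _
  · have e : (a + a') * (b + b') + (a' * b + c + c') + (a' * b + (c + a * b) + (c' + a' * b')) =
        (a' * b + a' * b) + (a' * b + a * b') + (c + c) + (c' + c') + (a * b + a * b) +
          (a' * b' + a' * b') := by ring
    rw [e, h2, h2, h2, h2, h2]
    ring

theorem cmul_self : ∀ p : Code, cmul p p = cone ↔ (p.a = 0 ∨ p.b = 0) := by decide +kernel

theorem cact_A1 : ∀ (τ : Ty) p, (∀ y ∈ ([⟨1, 0, 0⟩, ⟨F4.w, 0, 0⟩, ⟨0, 0, F4.w⟩] : List Code),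
    cact p τ y = y) → τ = ty1 ∧ p.b = 0 := by decide +kernel

theorem cact_A2 : ∀ (τ : Ty) p, (∀ y ∈ ([⟨0, 1, 0⟩, ⟨0, F4.w, 0⟩, ⟨0, 0, F4.w⟩] : List Code),
    cact p τ y = y) → τ = ty1 ∧ p.a = 0 := by decide +kernel

/-- test pairs for subgroups of index at most two -/
def prs : List (Code × Code) :=
  [(⟨1, 0, 0⟩, ⟨F4.w, 0, 0⟩), (⟨0, 1, 0⟩, ⟨0, F4.w, 0⟩), (⟨1, 0, 0⟩, ⟨0, 1, 0⟩),
   (⟨F4.w, 0, 0⟩, ⟨0, F4.w, 0⟩), (⟨1, 0, 0⟩, ⟨0, F4.w, 0⟩), (⟨F4.w, 0, 0⟩, ⟨0, 1, 0⟩)]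

theorem cact_ab (p : Code) (τ : Ty) (y : Code) :
    (cact p τ y).a = (ctau τ y).a ∧ (cact p τ y).b = (ctau τ y).b := by
  have h2 : ∀ u v : F4, u + v + u = v := by decide
  exact ⟨h2 _ _, h2 _ _⟩

set_option maxRecDepth 100000 in
theorem index_two_aux : ∀ τ : Ty, fr τ.1 F4.w = F4.w →
    (∀ y ∈ prs, ((ctau τ y.1).a = y.1.a ∧ (ctau τ y.1).b = y.1.b) ∨
      ((ctau τ y.2).a = y.2.a ∧ (ctau τ y.2).b = y.2.b) ∨
      ((ctau τ (cmul y.1 y.2)).a = (cmul y.1 y.2).a ∧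
        (ctau τ (cmul y.1 y.2)).b = (cmul y.1 y.2).b)) → τ = ty1 := by
  decide +kernel

theorem cact_c : ∀ (τ : Ty) a b c, cact ⟨a, b, c⟩ τ ⟨0, 0, F4.w⟩ = ⟨0, 0, fr τ.1 F4.w⟩ := by
  decide +kernel

theorem index_two (τ : Ty) (p : Code) (h : cact p τ ⟨0, 0, F4.w⟩ = ⟨0, 0, F4.w⟩)
    (h' : ∀ y ∈ prs, cact p τ y.1 = y.1 ∨ cact p τ y.2 = y.2 ∨
      cact p τ (cmul y.1 y.2) = cmul y.1 y.2) : τ = ty1 := by
  apply index_two_aux
  · rw [cact_c τ p.a p.b p.c] at h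
    exact congrArg Code.c h
  · intro y hy
    have key : ∀ y, cact p τ y = y → (ctau τ y).a = y.a ∧ (ctau τ y).b = y.b := by
      intro y h
      have := cact_ab p τ y
      rw [h] at this
      exact ⟨this.1.symm, this.2.symm⟩
    rcases h' y hy with h1 | h1 | h1
    · exact Or.inl (key _ h1)
    · exact Or.inr (Or.inl (key _ h1))
    · exact Or.inr (Or.inr (key _ h1))

theorem tau_fpf : ∀ p : Code, ⟨kap 0 1 * p.a, kap 1 2 * p.b, kap 0 2 * p.c⟩ = p → p = cone := by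
  decide +kernel

/-- every code is `[h, y]` -/
theorem tau_comm : ∀ p : Code, ∃ a b c, p = cmul ⟨kap 0 1 * a, kap 1 2 * b, kap 0 2 * c⟩
    (cinv ⟨a, b, c⟩) := by
  decide +kernel

namespace Dat

variable {L : Type*} [Group L] (A : Dat L)

theorem el_comm (p q : Code) : ⁅A.el p, A.el q⁆ = A.x 0 2 (p.a * q.b + p.b * q.a) := by
  rw [commutatorElement_def, A.el_inv, A.el_inv, mul_assoc, A.el_mul, A.el_mul, A.el_mul,
    ← A.el_x02, ← ccomm_eq]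
  rfl

/-! ### The subgroups `Z`, `A₁`, `A₂` -/

/-- the centre of `T` -/
def Z : Subgroup L where
  carrier := {l | ∃ c, l = A.x 0 2 c}
  mul_mem' := by
    rintro _ _ ⟨c, rfl⟩ ⟨d, rfl⟩
    exact ⟨_, A.x_add 0 2 (by decide) c d⟩
  one_mem' := ⟨0, (A.x_zero 0 2 (by decide)).symm⟩
  inv_mem' := by
    rintro _ ⟨c, rfl⟩
    exact ⟨c, A.x_inv 0 2 (by decide) c⟩

/-- the first elementary abelian subgroup of order 16 -/
def A1 : Subgroup L where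
  carrier := {l | ∃ a c, l = A.el ⟨a, 0, c⟩}
  mul_mem' := by
    rintro _ _ ⟨a, c, rfl⟩ ⟨a', c', rfl⟩
    exact ⟨_, _, A.el_mul _ _⟩
  one_mem' := ⟨0, 0, A.el_one.symm⟩
  inv_mem' := by
    rintro _ ⟨a, c, rfl⟩
    refine ⟨a, c, ?_⟩
    rw [A.el_inv, cinv, mul_zero, add_zero]

/-- the second elementary abelian subgroup of order 16 -/
def A2 : Subgroup L where
  carrier := {l | ∃ b c, l = A.el ⟨0, b, c⟩}
  mul_mem' := by
    rintro _ _ ⟨a, c, rfl⟩ ⟨a', c', rfl⟩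
    exact ⟨_, _, A.el_mul _ _⟩
  one_mem' := ⟨0, 0, A.el_one.symm⟩
  inv_mem' := by
    rintro _ ⟨a, c, rfl⟩
    refine ⟨a, c, ?_⟩
    rw [A.el_inv, cinv, zero_mul, add_zero]

variable {A}

theorem mem_Z {l : L} : l ∈ A.Z ↔ ∃ c, l = A.x 0 2 c := Iff.rfl

theorem mem_A1 {l : L} : l ∈ A.A1 ↔ ∃ a c, l = A.el ⟨a, 0, c⟩ := Iff.rfl

theorem mem_A2 {l : L} : l ∈ A.A2 ↔ ∃ b c, l = A.el ⟨0, b, c⟩ := Iff.rfl

theorem el_mem_Z {p : Code} : A.el p ∈ A.Z ↔ p.a = 0 ∧ p.b = 0 := by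
  rw [mem_Z]
  constructor
  · rintro ⟨c, h⟩
    rw [← A.el_x02] at h
    rw [A.inj h]; exact ⟨rfl, rfl⟩
  · obtain ⟨a, b, c⟩ := p
    rintro ⟨h1, h2⟩
    have h1' : a = 0 := h1
    have h2' : b = 0 := h2
    subst h1' h2'
    exact ⟨c, A.el_x02 c⟩

theorem el_mem_A1 {p : Code} : A.el p ∈ A.A1 ↔ p.b = 0 := by
  rw [mem_A1]
  constructor
  · rintro ⟨a, c, h⟩
    rw [A.inj h]
  · intro h
    refine ⟨p.a, p.c, ?_⟩
    rw [← h]

theorem el_mem_A2 {p : Code} : A.el p ∈ A.A2 ↔ p.a = 0 := by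
  rw [mem_A2]
  constructor
  · rintro ⟨a, c, h⟩
    rw [A.inj h]
  · intro h
    refine ⟨p.b, p.c, ?_⟩
    rw [← h]

theorem Z_le_A1 : A.Z ≤ A.A1 := by
  rintro _ ⟨c, rfl⟩
  rw [← A.el_x02, el_mem_A1]

theorem Z_le_A2 : A.Z ≤ A.A2 := by
  rintro _ ⟨c, rfl⟩
  rw [← A.el_x02, el_mem_A2]

theorem A1_le_T : A.A1 ≤ A.T := by
  rintro _ ⟨a, c, rfl⟩
  exact A.el_mem _

theorem A2_le_T : A.A2 ≤ A.T := by
  rintro _ ⟨a, c, rfl⟩
  exact A.el_mem _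

theorem Z_le_T : A.Z ≤ A.T := Z_le_A1.trans A1_le_T

theorem A1_inf_A2 : A.A1 ⊓ A.A2 = A.Z := by
  apply le_antisymm
  · rintro l ⟨⟨a, c, rfl⟩, h⟩
    have h1 : A.el ⟨a, 0, c⟩ ∈ A.A2 := h
    rw [el_mem_A2] at h1
    rw [el_mem_Z]
    exact ⟨h1, rfl⟩
  · exact le_inf Z_le_A1 Z_le_A2

theorem card_Z : Nat.card A.Z = 4 := by
  have h : Nat.card F4 = 4 := by rw [Nat.card_eq_fintype_card]; rfl
  rw [← h]
  symm
  apply Nat.card_congr
  refine Equiv.ofBijective (fun c => ⟨A.x 0 2 c, c, rfl⟩) ⟨?_, ?_⟩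
  · intro c d h
    have h1 : A.x 0 2 c = A.x 0 2 d := congrArg Subtype.val h
    rw [← A.el_x02, ← A.el_x02] at h1
    exact congrArg Code.c (A.inj h1)
  · rintro ⟨_, c, rfl⟩; exact ⟨c, rfl⟩

theorem card_A1 : Nat.card A.A1 = 16 := by
  have h : Nat.card (F4 × F4) = 16 := by rw [Nat.card_eq_fintype_card]; rfl
  rw [← h]
  symm
  apply Nat.card_congr
  refine Equiv.ofBijective (fun c => ⟨A.el ⟨c.1, 0, c.2⟩, _, _, rfl⟩) ⟨?_, ?_⟩
  · intro c d h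
    have h1 := A.inj (congrArg Subtype.val h)
    exact Prod.ext (congrArg Code.a h1) (congrArg Code.c h1)
  · rintro ⟨_, a, c, rfl⟩; exact ⟨(a, c), rfl⟩

theorem card_A2 : Nat.card A.A2 = 16 := by
  have h : Nat.card (F4 × F4) = 16 := by rw [Nat.card_eq_fintype_card]; rfl
  rw [← h]
  symm
  apply Nat.card_congr
  refine Equiv.ofBijective (fun c => ⟨A.el ⟨0, c.1, c.2⟩, _, _, rfl⟩) ⟨?_, ?_⟩
  · intro c d h
    have h1 := A.inj (congrArg Subtype.val h)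
    exact Prod.ext (congrArg Code.b h1) (congrArg Code.c h1)
  · rintro ⟨_, a, c, rfl⟩; exact ⟨(a, c), rfl⟩

/-- the centraliser of an involution of `Z` is `T` -/
theorem cent_x02 {l : L} : l * A.x 0 2 1 = A.x 0 2 1 * l ↔ l ∈ A.T := by
  constructor
  · intro h
    obtain ⟨p, hp⟩ := A.cent l h
    exact ⟨p, hp.symm⟩
  · rintro ⟨p, rfl⟩
    have h1 := A.el_comm p ⟨0, 0, 1⟩
    rw [mul_zero, mul_zero, add_zero, A.x_zero 0 2 (by decide), commutatorElement_eq_one_iff_mul_comm,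
      A.el_x02] at h1
    exact h1

theorem Z_comm {z l : L} (hz : z ∈ A.Z) (hl : l ∈ A.T) : z * l = l * z := by
  obtain ⟨c, rfl⟩ := hz
  obtain ⟨p, rfl⟩ := hl
  have h1 := A.el_comm ⟨0, 0, c⟩ p
  rw [zero_mul, zero_mul, add_zero, A.x_zero 0 2 (by decide), commutatorElement_eq_one_iff_mul_comm,
    A.el_x02] at h1
  exact h1

theorem A1_sq {l : L} (hl : l ∈ A.A1) : l * l = 1 := by
  obtain ⟨a, c, rfl⟩ := hl
  rw [A.el_mul, A.el_eq_one, cmul_self]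
  exact Or.inr rfl

theorem A2_sq {l : L} (hl : l ∈ A.A2) : l * l = 1 := by
  obtain ⟨a, c, rfl⟩ := hl
  rw [A.el_mul, A.el_eq_one, cmul_self]
  exact Or.inl rfl

/-- all involutions of `T` lie in `A₁ ∪ A₂` -/
theorem T_sq {l : L} (hl : l ∈ A.T) (h : l * l = 1) : l ∈ A.A1 ∨ l ∈ A.A2 := by
  obtain ⟨p, rfl⟩ := hl
  rw [A.el_mul, A.el_eq_one, cmul_self] at h
  rcases h with h | h
  · exact Or.inr (el_mem_A2.mpr h)
  · exact Or.inl (el_mem_A1.mpr h)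

theorem A1_comm {k l : L} (hk : k ∈ A.A1) (hl : l ∈ A.A1) : k * l = l * k := by
  obtain ⟨a, c, rfl⟩ := hk
  obtain ⟨a', c', rfl⟩ := hl
  have h1 := A.el_comm ⟨a, 0, c⟩ ⟨a', 0, c'⟩
  rw [mul_zero, zero_mul, add_zero, A.x_zero 0 2 (by decide),
    commutatorElement_eq_one_iff_mul_comm] at h1
  exact h1

theorem A2_comm {k l : L} (hk : k ∈ A.A2) (hl : l ∈ A.A2) : k * l = l * k := by
  obtain ⟨a, c, rfl⟩ := hk
  obtain ⟨a', c', rfl⟩ := hl
  have h1 := A.el_comm ⟨0, a, c⟩ ⟨0, a', c'⟩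
  rw [zero_mul, mul_zero, add_zero, A.x_zero 0 2 (by decide),
    commutatorElement_eq_one_iff_mul_comm] at h1
  exact h1

/-- commutators of elements of `T` lie in `Z` -/
theorem comm_mem_Z {k l : L} (hk : k ∈ A.T) (hl : l ∈ A.T) : ⁅k, l⁆ ∈ A.Z := by
  obtain ⟨p, rfl⟩ := hk
  obtain ⟨q, rfl⟩ := hl
  exact ⟨_, A.el_comm p q⟩

/-- `T' = Z` -/
theorem commutator_T : ⁅A.T, A.T⁆ = A.Z := by
  apply le_antisymm
  · rw [Subgroup.commutator_le]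
    exact fun k hk l hl => comm_mem_Z hk hl
  · rintro _ ⟨c, rfl⟩
    have h1 := A.el_comm ⟨c, 0, 0⟩ ⟨0, 1, 0⟩
    rw [mul_one, zero_mul, add_zero] at h1
    rw [← h1]
    exact Subgroup.commutator_mem_commutator (A.el_mem _) (A.el_mem _)

/-- `C_{A₁}(s) = Z` for `s ∈ T \ A₁` -/
theorem cent_A1 {s l : L} (hs : s ∈ A.T) (hs1 : s ∉ A.A1) (hl : l ∈ A.A1) (h : l * s = s * l) :
    l ∈ A.Z := by
  obtain ⟨p, rfl⟩ := hs
  obtain ⟨a, c, rfl⟩ := hl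
  rw [el_mem_A1] at hs1
  have h1 := A.el_comm ⟨a, 0, c⟩ p
  rw [commutatorElement_eq_one_iff_mul_comm.mpr h, zero_mul, add_zero, ← A.el_x02] at h1
  have h2 := A.el_eq_one.mp h1.symm
  have h3 : a * p.b = 0 := congrArg Code.c h2
  rw [el_mem_Z]
  refine ⟨?_, rfl⟩
  rcases mul_eq_zero.mp h3 with h | h
  · exact h
  · exact absurd h hs1

/-- `C_{A₂}(s) = Z` for `s ∈ T \ A₂` -/
theorem cent_A2 {s l : L} (hs : s ∈ A.T) (hs1 : s ∉ A.A2) (hl : l ∈ A.A2) (h : l * s = s * l) :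
    l ∈ A.Z := by
  obtain ⟨p, rfl⟩ := hs
  obtain ⟨a, c, rfl⟩ := hl
  rw [el_mem_A2] at hs1
  have h1 := A.el_comm ⟨0, a, c⟩ p
  rw [commutatorElement_eq_one_iff_mul_comm.mpr h, zero_mul, zero_add, ← A.el_x02] at h1
  have h2 := A.el_eq_one.mp h1.symm
  have h3 : a * p.a = 0 := congrArg Code.c h2
  rw [el_mem_Z]
  refine ⟨rfl, ?_⟩
  rcases mul_eq_zero.mp h3 with h | h
  · exact h
  · exact absurd h hs1

/-- `[A₁, s] = Z` for `s ∈ T \ A₁` -/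
theorem comm_A1 {s z : L} (hs : s ∈ A.T) (hs1 : s ∉ A.A1) (hz : z ∈ A.Z) :
    ∃ l ∈ A.A1, ⁅l, s⁆ = z := by
  obtain ⟨p, rfl⟩ := hs
  obtain ⟨c, rfl⟩ := hz
  rw [el_mem_A1] at hs1
  refine ⟨A.el ⟨c * p.b⁻¹, 0, 0⟩, ⟨_, _, rfl⟩, ?_⟩
  rw [A.el_comm, zero_mul, add_zero, mul_assoc, inv_mul_cancel₀ hs1, mul_one]

/-- `[A₂, s] = Z` for `s ∈ T \ A₂` -/
theorem comm_A2 {s z : L} (hs : s ∈ A.T) (hs1 : s ∉ A.A2) (hz : z ∈ A.Z) :
    ∃ l ∈ A.A2, ⁅l, s⁆ = z := by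
  obtain ⟨p, rfl⟩ := hs
  obtain ⟨c, rfl⟩ := hz
  rw [el_mem_A2] at hs1
  refine ⟨A.el ⟨0, c * p.a⁻¹, 0⟩, ⟨_, _, rfl⟩, ?_⟩
  rw [A.el_comm, zero_mul, zero_add, mul_assoc, inv_mul_cancel₀ hs1, mul_one]

/-! ### The element `h` of order three -/

theorem h_el (p : Code) : A.h⁻¹ * A.el p * A.h = A.el ⟨kap 0 1 * p.a, kap 1 2 * p.b, kap 0 2 * p.c⟩ := by
  rw [A.el_eq, A.el_eq]
  have e : A.h⁻¹ * (A.x 0 1 p.a * A.x 1 2 p.b * A.x 0 2 p.c) * A.h =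
      (A.h⁻¹ * A.x 0 1 p.a * A.h) * (A.h⁻¹ * A.x 1 2 p.b * A.h) * (A.h⁻¹ * A.x 0 2 p.c * A.h) := by
    group
  rw [e, A.h_x 0 1 (by decide), A.h_x 1 2 (by decide), A.h_x 0 2 (by decide)]

theorem h_normalizes {l : L} : A.h⁻¹ * l * A.h ∈ A.T ↔ l ∈ A.T := by
  have h1 : ∀ l, l ∈ A.T → A.h⁻¹ * l * A.h ∈ A.T := by
    rintro _ ⟨p, rfl⟩
    rw [h_el]; exact A.el_mem _
  constructor
  · intro h
    have h2 := h1 _ (h1 _ h)
    have e : A.h⁻¹ * (A.h⁻¹ * (A.h⁻¹ * l * A.h) * A.h) * A.h =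
        (A.h * (A.h * A.h))⁻¹ * l * (A.h * (A.h * A.h)) := by group
    rw [e, ← pow_three, A.h_pow, inv_one, one_mul, mul_one] at h2
    exact h2
  · exact h1 l

/-- `h` acts fixed point freely on `T` -/
theorem h_fpf {l : L} (hl : l ∈ A.T) (h : l * A.h = A.h * l) : l = 1 := by
  obtain ⟨p, rfl⟩ := hl
  have h1 := A.h_el p
  rw [mul_assoc, h, inv_mul_cancel_left] at h1
  rw [A.el_eq_one]
  exact tau_fpf p (A.inj h1).symm

/-- every element of `T` is a commutator `[h⁻¹, y]`, `y ∈ T` -/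
theorem h_comm {l : L} (hl : l ∈ A.T) : ∃ y ∈ A.T, l = ⁅A.h⁻¹, y⁆ := by
  obtain ⟨p, rfl⟩ := hl
  obtain ⟨a, b, c, hp⟩ := tau_comm p
  refine ⟨A.el ⟨a, b, c⟩, A.el_mem _, ?_⟩
  rw [commutatorElement_def, inv_inv, A.h_el, A.el_inv, A.el_mul, ← hp]

theorem h_ne_one : A.h ≠ 1 := by
  intro h
  have := A.h_fpf (l := A.x 0 2 1) (by rw [← A.el_x02]; exact A.el_mem _) (by rw [h, mul_one, one_mul])
  rw [← A.el_x02, A.el_eq_one] at this
  exact absurd this (by decide)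

theorem cent_x02_any {c : F4} (hc : c ≠ 0) {l : L} :
    l * A.x 0 2 c = A.x 0 2 c * l ↔ l ∈ A.T := by
  constructor
  · intro h
    have h1 : ∀ l : L, (A.h⁻¹ * l * A.h) * (A.h⁻¹ * A.x 0 2 c * A.h) = (A.h⁻¹ * A.x 0 2 c * A.h) *
        (A.h⁻¹ * l * A.h) ↔ l * A.x 0 2 c = A.x 0 2 c * l := by
      intro l
      constructor
      · intro h
        have e1 : (A.h⁻¹ * l * A.h) * (A.h⁻¹ * A.x 0 2 c * A.h) = A.h⁻¹ * (l * A.x 0 2 c) * A.h := by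
          group
        have e2 : (A.h⁻¹ * A.x 0 2 c * A.h) * (A.h⁻¹ * l * A.h) = A.h⁻¹ * (A.x 0 2 c * l) * A.h := by
          group
        rw [e1, e2] at h
        exact mul_left_cancel (mul_right_cancel h)
      · intro h
        calc (A.h⁻¹ * l * A.h) * (A.h⁻¹ * A.x 0 2 c * A.h) = A.h⁻¹ * (l * A.x 0 2 c) * A.h := by group
          _ = A.h⁻¹ * (A.x 0 2 c * l) * A.h := by rw [h]
          _ = _ := by group
    cases c
    · exact absurd rfl hc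
    · exact cent_x02.mp h
    · have h2 := (h1 l).mpr h
      rw [A.h_x 0 2 (by decide)] at h2
      exact h_normalizes.mp (cent_x02.mp h2)
    · have h2 := (h1 l).mpr h
      rw [A.h_x 0 2 (by decide)] at h2
      have e : kap 0 2 * F4.v = F4.w := rfl
      rw [e] at h2
      have h3 : (A.h⁻¹ * (A.h⁻¹ * l * A.h) * A.h) * (A.h⁻¹ * A.x 0 2 F4.w * A.h) =
          (A.h⁻¹ * A.x 0 2 F4.w * A.h) * (A.h⁻¹ * (A.h⁻¹ * l * A.h) * A.h) := by
        calc _ = A.h⁻¹ * ((A.h⁻¹ * l * A.h) * A.x 0 2 F4.w) * A.h := by group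
          _ = A.h⁻¹ * (A.x 0 2 F4.w * (A.h⁻¹ * l * A.h)) * A.h := by rw [h2]
          _ = _ := by group
      rw [A.h_x 0 2 (by decide)] at h3
      exact h_normalizes.mp (h_normalizes.mp (cent_x02.mp h3))
  · intro h
    exact (Z_comm ⟨c, rfl⟩ h).symm

/-- the centraliser of an involution of `Z` is `T` -/
theorem cent_Z {z l : L} (hz : z ∈ A.Z) (hz1 : z ≠ 1) : l * z = z * l ↔ l ∈ A.T := by
  obtain ⟨c, rfl⟩ := hz
  apply cent_x02_any
  rintro rfl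
  exact hz1 (A.x_zero 0 2 (by decide))

/-! ### Centralisers in the automorphism group -/

/-- an automorphism fixing `A₁` pointwise is induced by `A₁` -/
theorem aut_A1 {α : MulAut L} (h : ∀ l ∈ A.A1, α l = l) : ∃ k ∈ A.A1, α = MulAut.conj k := by
  have h02 : α (A.x 0 2 1) = A.x 0 2 1 := by
    apply h; rw [← A.el_x02, el_mem_A1]
  obtain ⟨p, τ, hp⟩ := A.exists_cd h02
  have h1 := cact_A1 τ p (fun y hy => by
    apply A.inj
    rw [← hp.apply]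
    apply h
    rw [el_mem_A1]
    simp only [List.mem_cons, List.not_mem_nil, or_false] at hy
    rcases hy with rfl | rfl | rfl <;> rfl)
  obtain ⟨rfl, hb⟩ := h1
  refine ⟨A.el (cinv p), ?_, hp.eq_conj⟩
  rw [el_mem_A1]; exact hb

/-- an automorphism fixing `A₂` pointwise is induced by `A₂` -/
theorem aut_A2 {α : MulAut L} (h : ∀ l ∈ A.A2, α l = l) : ∃ k ∈ A.A2, α = MulAut.conj k := by
  have h02 : α (A.x 0 2 1) = A.x 0 2 1 := by
    apply h; rw [← A.el_x02, el_mem_A2]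
  obtain ⟨p, τ, hp⟩ := A.exists_cd h02
  have h1 := cact_A2 τ p (fun y hy => by
    apply A.inj
    rw [← hp.apply]
    apply h
    rw [el_mem_A2]
    simp only [List.mem_cons, List.not_mem_nil, or_false] at hy
    rcases hy with rfl | rfl | rfl <;> rfl)
  obtain ⟨rfl, hb⟩ := h1
  refine ⟨A.el (cinv p), ?_, hp.eq_conj⟩
  rw [el_mem_A2]; exact hb

/-- an automorphism fixing `T` pointwise is induced by `Z` -/
theorem aut_T {α : MulAut L} (h : ∀ l ∈ A.T, α l = l) : ∃ k ∈ A.Z, α = MulAut.conj k := by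
  obtain ⟨k, hk, rfl⟩ := aut_A1 (fun l hl => h l (A1_le_T hl))
  obtain ⟨k', hk', h'⟩ := aut_A2 (fun l hl => h l (A2_le_T hl))
  have := A.conj_injective h'
  subst this
  refine ⟨k, ?_, rfl⟩
  rw [← A1_inf_A2]
  exact ⟨hk, hk'⟩

/-- an automorphism fixing a subgroup of index at most two of `T` pointwise is induced by `T` -/
theorem aut_index_two {α : MulAut L} {S0 : Subgroup L} (hS0 : S0 ≤ A.T)
    (hind : S0.relIndex A.T ≤ 2) (hne : S0.relIndex A.T ≠ 0) (h : ∀ l ∈ S0, α l = l) :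
    ∃ k ∈ A.T, α = MulAut.conj k := by
  have key : ∀ s ∈ A.T, ∀ t ∈ A.T, s ∈ S0 ∨ t ∈ S0 ∨ s * t ∈ S0 := by
    intro s hs t ht
    rcases (show S0.relIndex A.T = 1 ∨ S0.relIndex A.T = 2 by omega) with h1 | h2
    · rw [Subgroup.relIndex_eq_one] at h1
      exact Or.inl (h1 hs)
    · by_contra hcon
      push Not at hcon
      obtain ⟨h3, h4, h5⟩ := hcon
      have h6 := (Subgroup.mul_mem_iff_of_index_two (H := S0.subgroupOf A.T) h2
        (a := ⟨s, hs⟩) (b := ⟨t, ht⟩))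
      rw [Subgroup.mem_subgroupOf, Subgroup.mem_subgroupOf, Subgroup.mem_subgroupOf] at h6
      exact h5 (h6.mpr ⟨fun h => absurd h h3, fun h => absurd h h4⟩)
  have hsq : ∀ s ∈ A.T, s * s ∈ S0 := by
    intro s hs
    rcases key s hs s hs with h | h | h
    · exact mul_mem h h
    · exact mul_mem h h
    · exact h
  have hZ : ∀ c, A.x 0 2 c ∈ S0 := by
    intro c
    have h1 := hsq _ (A.el_mem ⟨c, 1, 0⟩)
    have h2 : A.el ⟨c, 1, 0⟩ * A.el ⟨c, 1, 0⟩ = A.x 0 2 c := by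
      rw [A.el_mul, ← A.el_x02]
      congr 1
      have : ∀ c, cmul ⟨c, 1, 0⟩ ⟨c, 1, 0⟩ = ⟨0, 0, c⟩ := by decide
      exact this c
    rwa [h2] at h1
  obtain ⟨p, τ, hp⟩ := A.exists_cd (h _ (hZ 1))
  have h1 : τ = ty1 := by
    refine index_two τ p ?_ ?_
    · apply A.inj
      rw [← hp.apply, A.el_x02]
      exact h _ (hZ F4.w)
    · intro y hy
      rcases key _ (A.el_mem y.1) _ (A.el_mem y.2) with h2 | h2 | h2
      · left; apply A.inj; rw [← hp.apply]; exact h _ h2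
      · right; left; apply A.inj; rw [← hp.apply]; exact h _ h2
      · right; right; apply A.inj; rw [← hp.apply, ← A.el_mul]; exact h _ h2
  subst h1
  exact ⟨_, A.el_mem _, hp.eq_conj⟩

end Dat

end Cfsg.Agent.LThreeFour
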